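/-
Overgroups of the monomial group of `SU_3`: one transvection of a coordinate line is enough.
-/
import Cfsg.Agent.Lib.MaxSub.SU3Max.Basic

set_option autoImplicit false
set_option maxHeartbeats 400000
set_option linter.unusedSectionVars false

namespace CfsgLib.MaxSub.SU3Max.Frame

open Matrix Cfsg Cfsg.Geo CfsgLib.UnitaryTransvection

variable {F : Type*} [Field F] [Fintype F] {q : ℕ} {hF : Fintype.card F = q ^ 2}

local notation "V" => Fin 3 → F
local notation "h" => Cfsg.hermForm 3 F q
local notation "σ" => frob hF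
local notation "Mn" => Matrix (Fin 3) (Fin 3) F
local notation "G" => Cfsg.GU 3 F q ⊓ specialLinear (Fin 3) F

/-- The coordinate vectors. -/
def ev (i : Fin 3) : V := Pi.single i 1

/-- A multiple of a coordinate vector. -/
def Frm (x : V) : Prop := ∃ j : Fin 3, ∀ l, l ≠ j → x l = 0

/-- The subgroup contains every monomial member of `SU_3`. -/
def HasN (q : ℕ) (K : Subgroup (GL (Fin 3) F)) : Prop :=
  ∀ g : GL (Fin 3) F, g ∈ Cfsg.GU 3 F q ⊓ specialLinear (Fin 3) F →
    (∀ j, Frm ((g : Mn) *ᵥ ev j)) → g ∈ K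

include hF in
theorem h_ev (x : V) (i : Fin 3) : h x (ev i) = x i := UnitaryOrder.herm_single_right hF x i

include hF in
theorem h_ev_left (x : V) (i : Fin 3) : h (ev i) x = σ (x i) := by
  rw [← h_swap hF, h_ev (hF := hF)]

include hF in
theorem h_three (x y : V) : h x y = x 0 * σ (y 0) + x 1 * σ (y 1) + x 2 * σ (y 2) := by
  simp only [frob_apply]
  show ∑ i, x i * (y i) ^ q = _
  rw [Fin.sum_univ_three]

include hF in
theorem exists_gen (hq : 3 ≤ q) :
    ∃ l : F, l ≠ 0 ∧ l * σ l = 1 ∧ ∀ m : ℕ, l ^ m = 1 → q + 1 ∣ m := by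
  obtain ⟨g, hg⟩ := IsCyclic.exists_generator (α := Fˣ)
  have ho : orderOf g = q ^ 2 - 1 := by
    rw [orderOf_eq_card_of_forall_mem_zpowers hg, Nat.card_units, Nat.card_eq_fintype_card, hF]
  have e : (q - 1) * (q + 1) = q ^ 2 - 1 := by
    rw [mul_comm]; simpa using (Nat.sq_sub_sq q 1).symm
  refine ⟨((g ^ (q - 1) : Fˣ) : F), Units.ne_zero _, ?_, fun m hm => ?_⟩
  · rw [frob_apply, ← Units.val_pow_eq_pow_val, ← Units.val_mul]
    have : g ^ (q - 1) * (g ^ (q - 1)) ^ q = 1 := by
      rw [← pow_mul, ← pow_add, show q - 1 + (q - 1) * q = (q - 1) * (q + 1) by ring, e, ← ho,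
        pow_orderOf_eq_one]
    rw [this, Units.val_one]
  · rw [← Units.val_pow_eq_pow_val, Units.val_eq_one, ← pow_mul] at hm
    have h1 := orderOf_dvd_of_pow_eq_one hm
    rw [ho, ← e] at h1
    exact Nat.dvd_of_mul_dvd_mul_left (by omega) h1

variable {K : Subgroup (GL (Fin 3) F)}

include hF in
/-- The diagonal members. -/
theorem exists_diag (hN : HasN q K) (d : V) (hd : ∀ i, d i * σ (d i) = 1)
    (hp : d 0 * d 1 * d 2 = 1) : ∃ g ∈ K, g ∈ G ∧ ∀ x : V, (g : Mn) *ᵥ x = fun i => d i * x i := by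
  have hdet : (Matrix.diagonal d).det = 1 := by rw [Matrix.det_diagonal, Fin.prod_univ_three, hp]
  have hx : ∀ x : V, (sg (Matrix.diagonal d) hdet : Mn) *ᵥ x = fun i => d i * x i := fun x => by
    funext i
    show (Matrix.diagonal d *ᵥ x) i = _
    rw [Matrix.mulVec_diagonal]
  have hG : sg (Matrix.diagonal d) hdet ∈ G := sg_mem (fun u v => by
    rw [h_three (hF := hF), h_three (hF := hF), Matrix.mulVec_diagonal, Matrix.mulVec_diagonal,
      Matrix.mulVec_diagonal, Matrix.mulVec_diagonal, Matrix.mulVec_diagonal, Matrix.mulVec_diagonal]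
    simp only [map_mul]
    linear_combination (u 0 * σ (v 0)) * hd 0 + (u 1 * σ (v 1)) * hd 1 + (u 2 * σ (v 2)) * hd 2) _
  refine ⟨_, hN _ hG fun j => ⟨j, fun l hl => ?_⟩, hG, hx⟩
  rw [hx]
  simp [ev, Pi.single_apply, hl]

include hF in
/-- The cyclic permutation of the coordinates. -/
theorem exists_cyc (hN : HasN q K) :
    ∃ g ∈ K, g ∈ G ∧ ∀ x : V, (g : Mn) *ᵥ x = ![x 2, x 0, x 1] := by
  set P : Mn := !![0, 0, 1; 1, 0, 0; 0, 1, 0] with hP
  have hPx : ∀ x : V, P *ᵥ x = ![x 2, x 0, x 1] := fun x => by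
    funext i
    fin_cases i <;> simp [hP, Matrix.mulVec, dotProduct, Fin.sum_univ_three]
  have hdet : P.det = 1 := by rw [hP, Matrix.det_fin_three]; simp
  have hG : sg P hdet ∈ G := sg_mem (fun u v => by
    rw [h_three (hF := hF), h_three (hF := hF), hPx, hPx]
    simp only [Matrix.cons_val_zero, Matrix.cons_val_one, Matrix.cons_val_two, Matrix.head_cons,
      Matrix.tail_cons]
    ring) _
  refine ⟨_, hN _ hG fun j => ⟨j + 1, fun l hl => ?_⟩, hG, hPx⟩
  show (P *ᵥ ev j) l = 0
  rw [hPx]
  fin_cases j <;> fin_cases l <;> simp [ev] at hl ⊢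

theorem line_iso {w : F} (hw : w * σ w = -1) : h (![0, 1, w]) (![0, 1, w]) = 0 := by
  rw [h_three (hF := hF)]
  simp [hw]

/-- The additive group of parameters at one centre. -/
def params (hF : Fintype.card F = q ^ 2) (K : Subgroup (GL (Fin 3) F)) (z : V) (hz : h z z = 0) :
    AddSubgroup F where
  carrier := {c | c + frob hF c = 0 ∧
    ∀ g : GL (Fin 3) F, (g : Mn) = Cfsg.unitaryTransvection 3 q z c → g ∈ K}
  zero_mem' := ⟨by rw [map_zero, add_zero], fun g hg => by
    have : g = 1 := Units.ext (by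
      refine Matrix.ext_of_mulVec_single fun i => ?_
      rw [hg, tmat_mulVec, zero_mul, zero_smul, add_zero, Units.val_one, Matrix.one_mulVec])
    rw [this]; exact one_mem _⟩
  add_mem' := by
    rintro a b ⟨ha, ha'⟩ ⟨hb, hb'⟩
    refine ⟨by rw [map_add]; linear_combination ha + hb, fun g hg => ?_⟩
    obtain ⟨ga, -, hga⟩ := exists_tv hF hz ha
    obtain ⟨gb, -, hgb⟩ := exists_tv hF hz hb
    have : g = ga * gb := Units.ext (by
      refine Matrix.ext_of_mulVec_single fun i => ?_
      rw [hg, Units.val_mul, ← Matrix.mulVec_mulVec, hga, hgb]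
      simp only [tmat_mulVec, h_add_left, h_smul_left, hz, mul_zero, add_zero]
      module)
    rw [this]; exact mul_mem (ha' ga hga) (hb' gb hgb)
  neg_mem' := by
    rintro a ⟨ha, ha'⟩
    refine ⟨by rw [map_neg]; linear_combination -ha, fun g hg => ?_⟩
    obtain ⟨ga, -, hga⟩ := exists_tv hF hz ha
    have : g * ga = 1 := Units.ext (by
      refine Matrix.ext_of_mulVec_single fun i => ?_
      rw [Units.val_mul, ← Matrix.mulVec_mulVec, hga, hg, Units.val_one, Matrix.one_mulVec]
      simp only [tmat_mulVec, h_add_left, h_smul_left, hz, mul_zero, add_zero]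
      module)
    rw [eq_inv_of_mul_eq_one_left this]; exact inv_mem (ha' ga hga)

theorem params_conj {z z' : V} {hz : h z z = 0} {hz' : h z' z' = 0} {k : GL (Fin 3) F} (hk : k ∈ K)
    (hkG : k ∈ G) {γ c : F} (hkz : (k : Mn) *ᵥ z = γ • z') (hc : c ∈ params hF K z hz) :
    c * (γ * σ γ) ∈ params hF K z' hz' := by
  obtain ⟨hc1, hc2⟩ := hc
  refine ⟨by rw [map_mul, map_mul, frob_frob hF]; linear_combination (γ * σ γ) * hc1, fun g hg => ?_⟩
  obtain ⟨g0, -, hg0⟩ := exists_tv hF hz hc1
  have : g = k * g0 * k⁻¹ := by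
    refine eq_mul_inv_of_mul_eq (Units.ext (Matrix.ext_of_mulVec_single fun i => ?_))
    rw [Units.val_mul, Units.val_mul, ← Matrix.mulVec_mulVec, ← Matrix.mulVec_mulVec, hg, hg0,
      tmat_mulVec, tmat_mulVec, Matrix.mulVec_add, Matrix.mulVec_smul, hkz, smul_smul]
    congr 2
    rw [← G_isometry hkG _ z, hkz, h_smul_right hF]
    ring
  rw [this]; exact mul_mem (mul_mem hk (hc2 g0 hg0)) (inv_mem hk)

theorem params_transport (hN : HasN q K) {w w' : F} (hw : w * σ w = -1) (hw' : w' * σ w' = -1)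
    {c : F} (hc : c ∈ params hF K ![0, 1, w] (line_iso hw)) :
    c ∈ params hF K ![0, 1, w'] (line_iso hw') := by
  have hw0 : w ≠ 0 := fun e => by rw [e, zero_mul] at hw; exact neg_ne_zero.2 one_ne_zero hw.symm
  have hσw : σ w ≠ 0 := (map_ne_zero _).2 hw0
  have hw'0 : w' ≠ 0 := fun e => by rw [e, zero_mul] at hw'; exact neg_ne_zero.2 one_ne_zero hw'.symm
  have hσw' : σ w' ≠ 0 := (map_ne_zero _).2 hw'0
  obtain ⟨k, hk, hkG, hkx⟩ := exists_diag (hF := hF) hN ![w / w', 1, w' / w] (fun i => by
    fin_cases i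
    · show w / w' * σ (w / w') = 1
      rw [map_div₀]; field_simp; linear_combination hw - hw'
    · show (1 : F) * σ 1 = 1
      rw [map_one, mul_one]
    · show w' / w * σ (w' / w) = 1
      rw [map_div₀]; field_simp; linear_combination hw' - hw) (by
    show w / w' * 1 * (w' / w) = 1
    field_simp)
  have := params_conj (hz' := line_iso hw') hk hkG (γ := 1) (by
    rw [hkx, one_smul]
    funext i
    fin_cases i
    · show w / w' * 0 = 0
      rw [mul_zero]
    · show (1 : F) * 1 = 1
      rw [mul_one]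
    · show w' / w * w = w'
      rw [div_mul_cancel₀ _ hw0]) hc
  simpa using this

/-- A transvection of the coordinate line which is not monomial gives the whole group. -/
theorem top_of_tv (hq : 3 ≤ q) (hKG : K ≤ G) (hN : HasN q K) {w c₀ : F} (hw : w * σ w = -1)
    (hc0 : c₀ ≠ 0) (hc1 : c₀ ≠ 1) (hmem : c₀ ∈ params hF K ![0, 1, w] (line_iso hw)) : G ≤ K := by
  classical
  set A := params hF K ![0, 1, w] (line_iso hw) with hA
  have hw0 : w ≠ 0 := fun e => by rw [e, zero_mul] at hw; exact neg_ne_zero.2 one_ne_zero hw.symm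
  have hskew := hmem.1
  obtain ⟨l, hl0, hl, hlord⟩ := exists_gen (hF := hF) hq
  -- the parameters obtained from the other centres of the line
  have key : ∀ ζ : F, ζ * σ ζ = 1 →
      c₀ * ((1 + c₀ * (1 - ζ)) * σ (1 + c₀ * (1 - ζ))) ∈ A ∧ 1 + c₀ * (1 - ζ) ≠ 0 := by
    intro ζ hζ
    have hwζ : ζ * w * σ (ζ * w) = -1 := by rw [map_mul]; linear_combination hw + (w * σ w) * hζ
    set b : V := ![0, 1, ζ * w] with hb
    set a : V := ![0, 1, w] with ha
    set γ := 1 + c₀ * (1 - ζ) with hγ
    obtain ⟨g, hgG, hg⟩ := exists_tv hF (line_iso hw) hskew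
    have hgK := hmem.2 g hg
    have hj : h b a = 1 - ζ := by
      rw [h_three (hF := hF), hb, ha]
      simp only [Matrix.cons_val_zero, Matrix.cons_val_one, Matrix.cons_val_two, Matrix.head_cons,
        Matrix.tail_cons, zero_mul, zero_add, map_one, mul_one]
      linear_combination ζ * hw
    have hgb : (g : Mn) *ᵥ b = ![0, γ, ζ * w + c₀ * (1 - ζ) * w] := by
      rw [hg, tmat_mulVec, hj, hb]
      funext i
      fin_cases i <;> simp [hγ]
    have hiso : h ((g : Mn) *ᵥ b) ((g : Mn) *ᵥ b) = 0 := by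
      rw [G_isometry hgG, hb]; exact line_iso hwζ
    rw [hgb, h_three (hF := hF)] at hiso
    simp only [Matrix.cons_val_zero, Matrix.cons_val_one, Matrix.cons_val_two, Matrix.head_cons,
      Matrix.tail_cons, zero_mul, zero_add] at hiso
    have hγ0 : γ ≠ 0 := by
      intro e
      rw [e, zero_mul, zero_add, mul_eq_zero] at hiso
      have e2 : ζ * w + c₀ * (1 - ζ) * w = 0 := by
        rcases hiso with e2 | e2
        · exact e2
        · exact (map_eq_zero _).1 e2
      have e3 : ζ + c₀ * (1 - ζ) = 0 :=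
        (mul_eq_zero.1 (show (ζ + c₀ * (1 - ζ)) * w = 0 by linear_combination e2)).resolve_right hw0
      have e4 : ζ = 1 := by rw [hγ] at e; linear_combination e3 - e
      rw [hγ, e4] at e
      simp at e
    set w₁ := (ζ * w + c₀ * (1 - ζ) * w) / γ with hw₁
    have hw₁n : w₁ * σ w₁ = -1 := by
      rw [hw₁, map_div₀]
      have : σ γ ≠ 0 := (map_ne_zero _).2 hγ0
      rw [div_mul_div_comm, div_eq_iff (mul_ne_zero hγ0 this)]
      linear_combination hiso
    refine ⟨params_transport hN hw₁n hw (params_conj (z := b) (hz := line_iso hwζ) hgK hgG ?_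
      (params_transport hN hw hwζ hmem)), hγ0⟩
    rw [hgb, hw₁]
    funext i
    fin_cases i <;> simp [mul_div_cancel₀ _ hγ0]
  -- enough values
  set μ : Finset F := (Finset.range (q + 1)).image fun i => l ^ i with hμ
  have hμcard : μ.card = q + 1 := by
    rw [hμ, Finset.card_image_of_injOn, Finset.card_range]
    intro i hi j hj e
    simp only [Finset.coe_range, Set.mem_Iio] at hi hj
    simp only at e
    by_contra hne
    rcases Nat.lt_or_ge i j with hij | hij
    · have h1 : l ^ (j - i) = 1 := by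
        refine mul_left_cancel₀ (pow_ne_zero i hl0) ?_
        rw [← pow_add, Nat.add_sub_cancel' hij.le, mul_one, e]
      have := Nat.le_of_dvd (by omega) (hlord _ h1)
      omega
    · have h1 : l ^ (i - j) = 1 := by
        refine mul_left_cancel₀ (pow_ne_zero j hl0) ?_
        rw [← pow_add, Nat.add_sub_cancel' hij, mul_one, e]
      have := Nat.le_of_dvd (by omega) (hlord _ h1)
      omega
  have hμn : ∀ ζ ∈ μ, ζ * σ ζ = 1 := by
    intro ζ hζ
    obtain ⟨i, -, rfl⟩ := Finset.mem_image.1 hζ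
    rw [map_pow, ← mul_pow, hl, one_pow]
  set f : F → F := fun ζ => c₀ * ((1 + c₀ * (1 - ζ)) * σ (1 + c₀ * (1 - ζ))) with hf
  have hfib : ∀ y ∈ μ.image f, (μ.filter fun x => f x = y).card ≤ 2 := by
    intro y _
    set κ := c₀ * (1 - c₀) with hκ
    have hκ0 : κ ≠ 0 := mul_ne_zero hc0 (sub_ne_zero.2 (Ne.symm hc1))
    set P : Polynomial F := Polynomial.C (-(c₀ * κ)) * Polynomial.X ^ 2 +
      Polynomial.C (c₀ * ((1 + c₀) * (1 - c₀) - c₀ * c₀) - y) * Polynomial.X +
      Polynomial.C (c₀ * (c₀ * (1 + c₀))) with hP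
    have hP0 : P ≠ 0 := fun e => by
      have := congrArg (fun P : Polynomial F => P.coeff 2) e
      simp only [hP, Polynomial.coeff_add, Polynomial.coeff_C_mul, Polynomial.coeff_X_pow,
        Polynomial.coeff_X, Polynomial.coeff_C, Polynomial.coeff_zero] at this
      norm_num at this
      exact this.elim hc0 hκ0
    have hdeg : P.natDegree ≤ 2 := Polynomial.natDegree_quadratic_le
    refine le_trans (Finset.card_le_card ?_) ((Multiset.toFinset_card_le _).trans
      ((Polynomial.card_roots' P).trans hdeg))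
    intro ζ hζ
    obtain ⟨hζμ, hζy⟩ := Finset.mem_filter.1 hζ
    rw [Multiset.mem_toFinset, Polynomial.mem_roots hP0]
    show P.eval ζ = 0
    have h1 := hμn ζ hζμ
    have hσc : σ c₀ = -c₀ := by linear_combination hskew
    simp only [hf] at hζy
    rw [map_add, map_mul, map_sub, map_one, hσc] at hζy
    simp only [hP, hκ, Polynomial.eval_add, Polynomial.eval_mul, Polynomial.eval_C, Polynomial.eval_pow,
      Polynomial.eval_X]
    linear_combination ζ * hζy - (c₀ * c₀ * (1 + c₀) - c₀ * c₀ * c₀ * ζ) * h1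
  have himg := Finset.card_le_mul_card_image μ 2 hfib
  set SK : Finset F := Finset.univ.filter fun x => x + σ x = 0 with hSK
  have hSKle : SK.card ≤ q := by
    set P : Polynomial F := Polynomial.X ^ q + Polynomial.X with hP
    have hP0 : P ≠ 0 := fun e => by
      have := congrArg (fun P : Polynomial F => P.coeff 1) e
      simp [hP, Polynomial.coeff_X_pow, show (1 : ℕ) ≠ q by omega] at this
    have hdeg : P.natDegree ≤ q := by
      rw [hP]
      refine (Polynomial.natDegree_add_le _ _).trans ?_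
      rw [Polynomial.natDegree_X_pow, Polynomial.natDegree_X]
      omega
    refine le_trans (Finset.card_le_card ?_) ((Multiset.toFinset_card_le _).trans
      ((Polynomial.card_roots' P).trans hdeg))
    intro x hx
    rw [Multiset.mem_toFinset, Polynomial.mem_roots hP0]
    show P.eval x = 0
    have := (Finset.mem_filter.1 hx).2
    simp only [hP, Polynomial.eval_add, Polynomial.eval_pow, Polynomial.eval_X]
    rw [frob_apply] at this
    linear_combination this
  -- the skew elements
  set S : AddSubgroup F := ((AddMonoidHom.id F) + (σ).toAddMonoidHom).ker with hS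
  have hSmem : ∀ x, x ∈ S ↔ x + σ x = 0 := fun x => Iff.rfl
  have hAS : A ≤ S := fun x hx => hx.1
  have hAcard : (μ.image f).card + 1 ≤ Nat.card A := by
    rw [Nat.card_eq_fintype_card, ← Finset.card_univ,
      ← Finset.card_map ⟨Subtype.val, Subtype.val_injective⟩ (s := (Finset.univ : Finset A))]
    refine le_trans (le_of_eq ?_) (Finset.card_le_card (s := insert 0 (μ.image f)) ?_)
    · rw [Finset.card_insert_of_notMem]
      intro h0
      obtain ⟨ζ, hζ, e⟩ := Finset.mem_image.1 h0
      have := (key ζ (hμn ζ hζ)).2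
      simp only [hf, mul_eq_zero, hc0, false_or] at e
      rcases e with e | e
      · exact this e
      · exact this ((map_eq_zero _).1 e)
    · intro x hx
      rw [Finset.mem_map]
      rcases Finset.mem_insert.1 hx with rfl | hx
      · exact ⟨0, Finset.mem_univ _, rfl⟩
      · obtain ⟨ζ, hζ, rfl⟩ := Finset.mem_image.1 hx
        exact ⟨⟨_, (key ζ (hμn ζ hζ)).1⟩, Finset.mem_univ _, rfl⟩
  have hScard : Nat.card S ≤ q := by
    refine le_trans (le_of_eq ?_) hSKle
    rw [← Fintype.card_coe, ← Nat.card_eq_fintype_card]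
    exact Nat.card_congr (Equiv.subtypeEquivRight fun x => by rw [hSmem]; simp [hSK])
  have hAeq : A = S := by
    refine AddSubgroup.eq_of_le_of_card_ge hAS ?_
    obtain ⟨m, hm⟩ := AddSubgroup.card_dvd_of_le hAS
    have hpos : 0 < Nat.card S := Nat.card_pos
    rcases Nat.lt_or_ge m 2 with hm2 | hm2
    · interval_cases m <;> omega
    · exfalso
      have := Nat.mul_le_mul_left (Nat.card A) hm2
      omega
  have hctr : ∀ w' : F, w' * σ w' = -1 → Ctr hF K (![0, 1, w'] : V) := fun w' hw' g c hc hg =>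
    (params_transport hN hw hw' (show c ∈ A by rw [hAeq, hSmem]; exact hc)).2 g hg
  have hlw : l * w * σ (l * w) = -1 := by rw [map_mul]; linear_combination hw + (w * σ w) * hl
  obtain ⟨k, hk, hkG, hkx⟩ := exists_cyc (hF := hF) hN
  refine top_of_line hq (c := ev 0) (a := ![0, 1, w]) (a' := ![0, 1, l * w])
    (x0 := (k : Mn) *ᵥ ![0, 1, w]) ?_ (line_iso hw) (line_iso hlw) ?_ ?_ ?_ (hctr w hw) (hctr _ hlw) ?_ ?_
    ((hctr w hw).conj hk hkG)
  · rw [h_ev (hF := hF)]; simp [ev]
  · rw [h_three (hF := hF)]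
    simp only [Matrix.cons_val_zero, Matrix.cons_val_one, Matrix.cons_val_two, Matrix.head_cons,
      Matrix.tail_cons, zero_mul, zero_add, map_one, mul_one, map_mul]
    intro e
    have h1 : σ l = 1 := by linear_combination -e + (σ l) * hw
    rw [h1, mul_one] at hl
    have := hlord 1 (by rw [pow_one, hl])
    have := Nat.le_of_dvd one_pos this
    omega
  · rw [h_ev (hF := hF)]; rfl
  · rw [h_ev (hF := hF)]; rfl
  · rw [G_isometry hkG]; exact line_iso hw
  · rw [h_ev (hF := hF), hkx]
    exact hw0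

end CfsgLib.MaxSub.SU3Max.Frame
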