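/-
Overgroups of the monomial group of `SU_3`: images of coordinate vectors with a zero coordinate.
-/
import Cfsg.Agent.Lib.MaxSub.SU3Max.Frame.Torus

set_option autoImplicit false
set_option maxHeartbeats 400000
set_option linter.unusedSectionVars false

namespace CfsgLib.MaxSub.SU3Max.Frame

open Matrix Cfsg Cfsg.Geo CfsgLib.UnitaryTransvection

variable {F : Type*} [Field F] [Fintype F] {q : ℕ} {hF : Fintype.card F = q ^ 2}
  {K : Subgroup (GL (Fin 3) F)}

local notation "V" => Fin 3 → F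
local notation "h" => Cfsg.hermForm 3 F q
local notation "σ" => frob hF
local notation "Mn" => Matrix (Fin 3) (Fin 3) F
local notation "G" => Cfsg.GU 3 F q ⊓ specialLinear (Fin 3) F

/-- The images of the coordinate vectors. -/
def Om (K : Subgroup (GL (Fin 3) F)) (v : V) : Prop := ∃ k ∈ K, ∃ j, (k : Mn) *ᵥ ev j = v

theorem inv_mulVec' (k : GL (Fin 3) F) (x : V) :
    ((k⁻¹ : GL (Fin 3) F) : Mn) *ᵥ ((k : Mn) *ᵥ x) = x := by
  rw [Matrix.mulVec_mulVec, Units.inv_mul, Matrix.one_mulVec]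

theorem mul_inv_mulVec' (k : GL (Fin 3) F) (x : V) :
    (k : Mn) *ᵥ (((k⁻¹ : GL (Fin 3) F) : Mn) *ᵥ x) = x := by
  rw [Matrix.mulVec_mulVec, Units.mul_inv, Matrix.one_mulVec]

theorem pow_mulVec_fix {g : GL (Fin 3) F} {x : V} {μ : F} (e : (g : Mn) *ᵥ x = μ • x) (m : ℕ) :
    ((g ^ m : GL (Fin 3) F) : Mn) *ᵥ x = μ ^ m • x := by
  induction m with
  | zero => rw [pow_zero, pow_zero, Units.val_one, Matrix.one_mulVec, one_smul]
  | succ m ih =>
    rw [pow_succ, Units.val_mul, ← Matrix.mulVec_mulVec, e, Matrix.mulVec_smul, ih, smul_smul, pow_succ,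
      mul_comm]

theorem pow_mulVec_shift {g : GL (Fin 3) F} {z y : V} {μ k : F} (ez : (g : Mn) *ᵥ z = μ • z)
    (ey : (g : Mn) *ᵥ y = μ • y + k • z) (m : ℕ) :
    ((g ^ (m + 1) : GL (Fin 3) F) : Mn) *ᵥ y = μ ^ (m + 1) • y + (((m + 1 : ℕ) : F) * μ ^ m * k) • z := by
  induction m with
  | zero => simp [ey]
  | succ m ih =>
    rw [pow_succ, Units.val_mul, ← Matrix.mulVec_mulVec, ey, Matrix.mulVec_add, Matrix.mulVec_smul,
      Matrix.mulVec_smul, ih, pow_mulVec_fix ez]
    push_cast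
    module

include hF in
theorem Om.of_mul {v : V} (hv : Om K v) {g : GL (Fin 3) F} (hg : g ∈ K) : Om K ((g : Mn) *ᵥ v) := by
  obtain ⟨k, hk, j, rfl⟩ := hv
  exact ⟨g * k, mul_mem hg hk, j, by rw [Units.val_mul, ← Matrix.mulVec_mulVec]⟩

include hF in
theorem Om.norm (hKG : K ≤ G) {v : V} (hv : Om K v) : h v v = 1 := by
  obtain ⟨k, hk, j, rfl⟩ := hv
  rw [G_isometry (hKG hk), h_ev (hF := hF)]
  simp [ev]

/-- The homologies at the images. -/
theorem exists_homol (hKG : K ≤ G) (hN : HasN q K) {v : V} (hv : Om K v) {l : F}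
    (hl : l * σ l = 1) :
    ∃ g ∈ K, ∀ x : V, (g : Mn) *ᵥ x = l • x + (((l * l)⁻¹ - l) * h x v) • v := by
  obtain ⟨k, hk, j, rfl⟩ := hv
  have hl0 : l ≠ 0 := fun e => by rw [e, zero_mul] at hl; exact zero_ne_one hl
  have hσ0 : σ l ≠ 0 := (map_ne_zero _).2 hl0
  obtain ⟨d, hd, -, hdx⟩ := exists_diag (hF := hF) hN (fun i => if i = j then (l * l)⁻¹ else l)
    (fun i => by
      by_cases hi : i = j
      · simp only [hi, if_true, map_inv₀, map_mul]
        field_simp
        linear_combination -(l * σ l + 1) * hl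
      · simp only [hi, if_false]; exact hl)
    (by fin_cases j <;> simp <;> field_simp)
  refine ⟨k * d * k⁻¹, mul_mem (mul_mem hk hd) (inv_mem hk), fun x => ?_⟩
  set u := ((k⁻¹ : GL (Fin 3) F) : Mn) *ᵥ x with hu
  have hdu : (d : Mn) *ᵥ u = l • u + (((l * l)⁻¹ - l) * u j) • ev j := by
    rw [hdx]; funext i
    by_cases hi : i = j
    · subst hi; simp [ev]; ring
    · simp [ev, hi]
  have hxv : h x ((k : Mn) *ᵥ ev j) = u j := by
    conv_lhs => rw [← mul_inv_mulVec' k x]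
    rw [G_isometry (hKG hk), h_ev (hF := hF)]
  rw [Units.val_mul, Units.val_mul, ← Matrix.mulVec_mulVec, ← Matrix.mulVec_mulVec, ← hu, hdu,
    Matrix.mulVec_add, Matrix.mulVec_smul, Matrix.mulVec_smul, hxv, hu, mul_inv_mulVec']

include hF in
/-- An image with first coordinate zero and two others non-zero gives everything. -/
theorem top_of_zero (hq : 3 ≤ q) (hq5 : q ≠ 5) (hKG : K ≤ G) (hN : HasN q K) {v : V} (hv : Om K v)
    (hv0 : v 0 = 0) (hx : v 1 ≠ 0) (hy : v 2 ≠ 0) : G ≤ K := by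
  obtain ⟨l, hl0, hl, hlord⟩ := exists_gen (hF := hF) hq
  have hσl : σ l ≠ 0 := (map_ne_zero _).2 hl0
  set x := v 1 with hxdef
  set y := v 2 with hydef
  obtain ⟨w, hw⟩ := exists_norm_eq hF (c := (-1 : F)) (by rw [map_neg, map_one])
  have hw0 : w ≠ 0 := fun e => by rw [e, zero_mul] at hw; exact neg_ne_zero.2 one_ne_zero hw.symm
  have hσw : σ w ≠ 0 := (map_ne_zero _).2 hw0
  set z : V := ![0, 1, w] with hz
  have hzz : h z z = 0 := line_iso hw
  have he0 : h (ev 0) (ev 0) = (1 : F) := by rw [h_ev (hF := hF)]; simp [ev]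
  have hze : h z (ev 0) = 0 := by rw [h_ev (hF := hF)]; rfl
  have hez : h (ev 0 : V) z = 0 := (h_eq_zero_swap hF).1 hze
  obtain ⟨yy, hyy⟩ : ∃ yy : V, h yy z = 1 ∧ h yy yy = 0 ∧ h yy (ev 0) = 0 := by
    have h1 : h (![0, 1, 0] : V) z = 1 := by rw [h_three (hF := hF)]; simp [hz]
    obtain ⟨k, hk1, hk2⟩ := exists_add_iso (hF := hF) hzz (y := ![0, 1, 0]) (by rw [h1]; exact one_ne_zero)
    refine ⟨_, hk2.trans h1, hk1, ?_⟩
    rw [h_add_left, h_smul_left, hze, h_ev (hF := hF)]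
    simp
  obtain ⟨hyz, hyy', hye⟩ := hyy
  have hzy : h z yy = 1 := by rw [← h_swap hF, hyz, map_one]
  have hey : h (ev 0 : V) yy = 0 := (h_eq_zero_swap hF).1 hye
  have expd : ∀ u : V, u = h u (ev 0) • ev 0 + (h u yy • z + h u z • yy) := fun u => by
    have := expand (hF := hF) (c := ev 0) (a := z) (a' := yy) (by rw [he0]; exact one_ne_zero) hzz hyy'
      hzy hze hye u
    rwa [he0, div_one] at this
  -- a member fixing `ev 0` and `z` which moves `yy` along `z` is a transvection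
  have tvmem : ∀ g : GL (Fin 3) F, g ∈ K → (g : Mn) *ᵥ ev 0 = ev 0 → (g : Mn) *ᵥ z = z → ∀ c : F,
      (g : Mn) *ᵥ yy = yy + c • z → c ∈ params hF K z hzz := by
    intro g hg g0 gz c gy
    have hc : c + σ c = 0 := by
      have := G_isometry (hKG hg) yy yy
      rw [gy, hyy', h_add_left, h_add_right hF, h_add_right hF, h_smul_left, h_smul_left,
        h_smul_right hF, h_smul_right hF, hyy', hyz, hzy, hzz] at this
      linear_combination this
    refine ⟨hc, fun g' hg' => ?_⟩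
    have : g' = g := Units.ext (Matrix.ext_of_mulVec_single fun i => by
      rw [hg', tmat_mulVec]
      conv_rhs => rw [expd (Pi.single i 1), Matrix.mulVec_add, Matrix.mulVec_add, Matrix.mulVec_smul,
        Matrix.mulVec_smul, Matrix.mulVec_smul, g0, gz, gy]
      conv_lhs => rw [expd (Pi.single i 1)]
      simp only [h_add_left, h_smul_left, hez, hzz, hyz, mul_zero, mul_one, zero_add, add_zero]
      module)
    rw [this]; exact hg
  have hq0 : (q : F) = 0 := by
    have := FiniteField.cast_card_eq_zero F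
    rw [hF, Nat.cast_pow] at this
    exact pow_eq_zero_iff two_ne_zero |>.1 this
  have hone : ∀ a : F, a * σ a = 1 → a ^ (q + 1) = 1 := fun a ha => by
    rw [pow_succ', ← frob_apply hF, ha]
  have hev1 : h (ev 1 : V) (ev 0) = 0 := by rw [h_ev (hF := hF)]; simp [ev]
  have hev1z : h (ev 1 : V) z = 1 := by rw [h_ev_left (hF := hF)]; simp [hz]
  have hvcomp : v = ![0, x, y] := by
    funext i; fin_cases i
    · exact hv0
    · rfl
    · rfl
  -- the member belonging to a root of unity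
  have member : ∀ l : F, l * σ l = 1 → l ^ 3 ≠ 1 → ((2 : F) = 0 → l ^ 6 ≠ 1) →
      (∃ c, c ≠ 0 ∧ c ≠ 1 ∧ c ∈ params hF K z hzz) ∨
      ∃ g ∈ K, ∃ ν μ k β : F, ν ≠ 0 ∧ μ ≠ 0 ∧ μ * σ μ ≠ 1 ∧ (g : Mn) *ᵥ ev 0 = ν • ev 0 ∧
        (g : Mn) *ᵥ z = μ • z ∧ (g : Mn) *ᵥ yy = (σ μ)⁻¹ • yy + k • z ∧
        β * (w + ((l ^ 3)⁻¹ - 1) * y * (σ x + w * σ y)) =
          w * (1 + ((l ^ 3)⁻¹ - 1) * x * (σ x + w * σ y)) ∧
        ∀ a b : F, (g : Mn) *ᵥ ![0, a, b] =
          ![0, l * (a + ((l ^ 3)⁻¹ - 1) * x * (a * σ x + b * σ y)),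
            β * (l * (b + ((l ^ 3)⁻¹ - 1) * y * (a * σ x + b * σ y)))] := by
    intro l hl hl3 hl6
    have hl0 : l ≠ 0 := fun e => by rw [e, zero_mul] at hl; exact zero_ne_one hl
    set t := (l ^ 3)⁻¹ - 1 with ht
    have hlt : (l * l)⁻¹ - l = l * t := by rw [ht]; field_simp
    obtain ⟨H, hH, hHx⟩ := exists_homol hKG hN hv hl
    have hHab : ∀ a b : F, (H : Mn) *ᵥ ![0, a, b] =
        ![0, l * (a + t * x * (a * σ x + b * σ y)), l * (b + t * y * (a * σ x + b * σ y))] := by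
      intro a b
      rw [hHx, hlt, h_three (hF := hF), hvcomp]
      funext i; fin_cases i <;> simp <;> ring
    set a₁ := 1 + t * x * (σ x + w * σ y) with ha₁
    set b₁ := w + t * y * (σ x + w * σ y) with hb₁
    have hHz : (H : Mn) *ᵥ z = ![0, l * a₁, l * b₁] := by
      rw [hz, hHab, ha₁, hb₁]; simp
    have hiso : a₁ * σ a₁ + b₁ * σ b₁ = 0 := by
      have := G_isometry (hKG hH) z z
      rw [hHz, hzz, h_three (hF := hF)] at this
      simp only [Matrix.cons_val_zero, Matrix.cons_val_one, Matrix.cons_val_two, Matrix.head_cons,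
        Matrix.tail_cons, zero_mul, zero_add, map_mul] at this
      linear_combination this - (a₁ * σ a₁ + b₁ * σ b₁) * hl
    have ha0 : a₁ ≠ 0 := fun e => by
      rw [e, zero_mul, zero_add, mul_eq_zero, map_eq_zero, or_self] at hiso
      have : z = 0 := by
        rw [← inv_mulVec' H z, hHz, e, hiso, mul_zero]
        have : (![0, 0, 0] : V) = 0 := by funext i; fin_cases i <;> rfl
        rw [this, Matrix.mulVec_zero]
      have := congrFun this 1
      simp [hz] at this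
    have hb0 : b₁ ≠ 0 := fun e => by
      rw [e, zero_mul, add_zero, mul_eq_zero, map_eq_zero, or_self] at hiso
      exact ha0 hiso
    have hσb : σ b₁ ≠ 0 := (map_ne_zero _).2 hb0
    set β := w * a₁ / b₁ with hβ
    have hβn : β * σ β = 1 := by
      rw [hβ, map_div₀, map_mul]
      field_simp
      linear_combination (a₁ * σ a₁) * hw - hiso
    have hβ0 : β ≠ 0 := fun e => by rw [e, zero_mul] at hβn; exact zero_ne_one hβn
    have hσβ : σ β ≠ 0 := (map_ne_zero _).2 hβ0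
    obtain ⟨d, hd, -, hdx⟩ := exists_diag (hF := hF) hN ![β⁻¹, 1, β] (fun i => by
      fin_cases i
      · show β⁻¹ * σ β⁻¹ = 1
        rw [map_inv₀, ← mul_inv, hβn, inv_one]
      · show (1 : F) * σ 1 = 1
        rw [map_one, mul_one]
      · exact hβn) (by show β⁻¹ * 1 * β = 1; rw [mul_one, inv_mul_cancel₀ hβ0])
    have hgK : d * H ∈ K := mul_mem hd hH
    set g := d * H with hg
    have hgab : ∀ a b : F, (g : Mn) *ᵥ ![0, a, b] =
        ![0, l * (a + t * x * (a * σ x + b * σ y)), β * (l * (b + t * y * (a * σ x + b * σ y)))] := by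
      intro a b
      rw [hg, Units.val_mul, ← Matrix.mulVec_mulVec, hHab, hdx]
      funext i; fin_cases i <;> simp
    set ν := β⁻¹ * l with hν
    have hν0 : ν ≠ 0 := mul_ne_zero (inv_ne_zero hβ0) hl0
    have hνn : ν * σ ν = 1 := by
      rw [hν, map_mul, map_inv₀]; field_simp; linear_combination hl - hβn
    have ge0 : (g : Mn) *ᵥ ev 0 = ν • ev 0 := by
      rw [hg, Units.val_mul, ← Matrix.mulVec_mulVec, hHx, h_ev_left (hF := hF), hv0, map_zero,
        mul_zero, zero_smul, add_zero, hdx, hν]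
      funext i; fin_cases i <;> simp [ev]
    set μ := l * a₁ with hμ
    have hμ0 : μ ≠ 0 := mul_ne_zero hl0 ha0
    have hσμ : σ μ ≠ 0 := (map_ne_zero _).2 hμ0
    have gz : (g : Mn) *ᵥ z = μ • z := by
      rw [hg, Units.val_mul, ← Matrix.mulVec_mulVec, hHz, hdx, hμ, hz, hβ]
      funext i; fin_cases i <;> simp <;> field_simp
    set k := h ((g : Mn) *ᵥ yy) yy with hk
    have gy : (g : Mn) *ᵥ yy = (σ μ)⁻¹ • yy + k • z := by
      have e1 : h ((g : Mn) *ᵥ yy) (ev 0) = 0 := by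
        have := G_isometry (hKG hgK) yy (ev 0)
        rw [ge0, h_smul_right hF, hye, mul_eq_zero] at this
        exact this.resolve_left ((map_ne_zero _).2 hν0)
      have e2 : h ((g : Mn) *ᵥ yy) z = (σ μ)⁻¹ := by
        have := G_isometry (hKG hgK) yy z
        rw [gz, h_smul_right hF, hyz] at this
        exact eq_inv_of_mul_eq_one_left (by rw [mul_comm]; exact this)
      conv_lhs => rw [expd ((g : Mn) *ᵥ yy), e1, e2, ← hk, zero_smul, zero_add, add_comm]
    by_cases hμn : μ * σ μ = 1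
    · left
      have hμi : (σ μ)⁻¹ = μ := by field_simp; linear_combination -hμn
      rw [hμi] at gy
      have gperp : ∀ u : V, h u (ev 0) = 0 → (g : Mn) *ᵥ u = μ • u + (h u z * k) • z := fun u hu => by
        conv_lhs => rw [expd u, hu, zero_smul, zero_add, Matrix.mulVec_add, Matrix.mulVec_smul,
          Matrix.mulVec_smul, gz, gy]
        conv_rhs => rw [expd u, hu, zero_smul, zero_add]
        simp only [h_add_left, h_smul_left, hzz, hyz, mul_zero, mul_one, zero_add]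
        module
      have g1 := gperp _ hev1
      rw [hev1z, one_mul, show (ev 1 : V) = ![0, 1, 0] by funext i; fin_cases i <;> simp [ev], hgab] at g1
      have c1 := congrFun g1 1
      have c2 := congrFun g1 2
      simp [hz] at c1 c2
      have ht0 : t ≠ 0 := fun e => hl3 (by rw [ht, sub_eq_zero, inv_eq_one] at e; exact e)
      have hk0 : k ≠ 0 := fun e => by
        rw [e] at c2
        simp [hβ0, hl0, ht0, hx, hy] at c2
      have gpow : ((g ^ (q + 1) : GL (Fin 3) F) : Mn) *ᵥ yy = yy + (σ μ * k) • z := by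
        rw [pow_mulVec_shift gz gy, hone μ hμn, one_smul, Nat.cast_add, Nat.cast_one, hq0, zero_add,
          one_mul, ← frob_apply hF]
      refine ⟨σ μ * k, mul_ne_zero hσμ hk0, fun e => ?_, tvmem _ (pow_mem hgK _)
        (by rw [pow_mulVec_fix ge0, hone ν hνn, one_smul]) (by rw [pow_mulVec_fix gz, hone μ hμn, one_smul])
        _ gpow⟩
      have h2 : (2 : F) = 0 := by
        have := (tvmem _ (pow_mem hgK _) (by rw [pow_mulVec_fix ge0, hone ν hνn, one_smul])
          (by rw [pow_mulVec_fix gz, hone μ hμn, one_smul]) _ gpow).1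
        rw [e, map_one] at this
        linear_combination this
      have hkμ : k = μ := by linear_combination μ * e - k * hμn
      rw [hkμ] at c1
      have hX : 1 + t * x * σ x = 0 := by
        refine (mul_eq_zero.1 (show l * (1 + t * x * σ x) = 0 from ?_)).resolve_left hl0
        linear_combination c1 + μ * h2
      have hσX : 1 + σ t * σ x * x = 0 := by
        have := congrArg σ hX
        rwa [map_add, map_one, map_mul, map_mul, frob_frob hF, map_zero] at this
      have hσt : σ t = t :=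
        mul_right_cancel₀ (mul_ne_zero hx ((map_ne_zero σ).2 hx)) (by linear_combination hσX - hX)
      rw [ht, map_sub, map_inv₀, map_one, map_pow, sub_left_inj, _root_.inv_inj] at hσt
      refine hl6 h2 ?_
      calc l ^ 6 = l ^ 3 * σ l ^ 3 := by rw [hσt]; ring
        _ = 1 := by rw [← mul_pow, hl, one_pow]
    · exact Or.inr ⟨g, hgK, ν, μ, k, β, hν0, hμ0, hμn, ge0, gz, gy,
        by rw [hβ, div_mul_cancel₀ _ hb0], hgab⟩
  have tvdone : ∀ c, c ≠ 0 → c ≠ 1 → c ∈ params hF K z hzz → G ≤ K := fun c h0 h1 hc =>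
    top_of_tv hq hKG hN hw h0 h1 hc
  have hdvd : ∀ m : ℕ, 0 < m → m < q + 1 → l ^ m ≠ 1 := fun m h0 hm e => by
    have := Nat.le_of_dvd h0 (hlord m e)
    omega
  have hdvd' : ∀ m : ℕ, l ^ m = 1 → ¬ (q + 1 ∣ m) → False := fun m e h' => h' (hlord m e)
  have hl31 : l ^ 3 ≠ 1 := hdvd 3 (by omega) (by omega)
  have hl61 : l ^ 6 ≠ 1 := fun e => by
    have hd := hlord 6 e
    have := Nat.le_of_dvd (by norm_num) hd
    rcases show q = 3 ∨ q = 4 ∨ q = 5 by omega with rfl | rfl | rfl <;> omega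
  have heven : (2 : F) = 0 → Even q := fun h2 => by
    by_contra ho
    obtain ⟨m, hm⟩ := Nat.not_even_iff_odd.1 ho
    have : (q : F) = 1 := by rw [hm]; push_cast; rw [h2, zero_mul, zero_add]
    exact zero_ne_one (hq0.symm.trans this)
  have hl12 : (2 : F) = 0 → (l ^ 2) ^ 6 ≠ 1 := fun h2 e => by
    rw [← pow_mul] at e
    have hd := hlord _ e
    have := Nat.le_of_dvd (by norm_num) hd
    obtain ⟨m, hm⟩ := heven h2
    subst hm
    have : m ≤ 5 := by omega
    interval_cases m <;> omega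
  rcases member l hl hl31 (fun _ => hl61) with ⟨c, h0, h1, hc⟩ |
    ⟨g₁, hg₁, ν₁, μ₁, k₁, β₁, hν₁, hμ₁, hn₁, e₁, z₁, y₁, hb₁, f₁⟩
  · exact tvdone c h0 h1 hc
  rcases member (l ^ 2) (by rw [map_pow, ← mul_pow, hl, one_pow]) (by rw [← pow_mul]; exact hl61)
      hl12 with ⟨c, h0, h1, hc⟩ | ⟨g₂, hg₂, ν₂, μ₂, k₂, β₂, hν₂, hμ₂, hn₂, e₂, z₂, y₂, hb₂, f₂⟩
  · exact tvdone c h0 h1 hc
  have hσμ₁ : σ μ₁ ≠ 0 := (map_ne_zero _).2 hμ₁
  have hσμ₂ : σ μ₂ ≠ 0 := (map_ne_zero _).2 hμ₂
  set p₁ := (σ μ₁)⁻¹ with hp₁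
  set p₂ := (σ μ₂)⁻¹ with hp₂
  have hp₁0 : p₁ ≠ 0 := inv_ne_zero hσμ₁
  have hp₂0 : p₂ ≠ 0 := inv_ne_zero hσμ₂
  by_cases hK12 : p₂ * k₁ + k₂ * μ₁ = p₁ * k₂ + k₁ * μ₂
  · -- a common second fixed point
    have hd₁ : p₁ - μ₁ ≠ 0 := fun e => hn₁ (by
      rw [sub_eq_zero, hp₁] at e
      calc μ₁ * σ μ₁ = (σ μ₁)⁻¹ * σ μ₁ := by rw [e]
        _ = 1 := inv_mul_cancel₀ hσμ₁)
    have hd₂ : p₂ - μ₂ ≠ 0 := fun e => hn₂ (by
      rw [sub_eq_zero, hp₂] at e
      calc μ₂ * σ μ₂ = (σ μ₂)⁻¹ * σ μ₂ := by rw [e]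
        _ = 1 := inv_mul_cancel₀ hσμ₂)
    set κ := k₁ / (p₁ - μ₁) with hκ
    have hk₁ : k₁ = κ * (p₁ - μ₁) := (div_mul_cancel₀ _ hd₁).symm
    have hk₂ : k₂ = κ * (p₂ - μ₂) := mul_left_cancel₀ hd₁ (by
      linear_combination -hK12 + (p₂ - μ₂) * hk₁)
    set P := yy + κ • z with hP
    have g₁P : (g₁ : Mn) *ᵥ P = p₁ • P := by
      rw [hP, Matrix.mulVec_add, Matrix.mulVec_smul, y₁, z₁, hk₁]; module
    have g₂P : (g₂ : Mn) *ᵥ P = p₂ • P := by
      rw [hP, Matrix.mulVec_add, Matrix.mulVec_smul, y₂, z₂, hk₂]; module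
    have hPP : h P P = 0 := by
      have := G_isometry (hKG hg₁) P P
      rw [g₁P, h_smul_left, h_smul_right hF] at this
      refine (mul_eq_zero.1 (show (p₁ * σ p₁ - 1) * h P P = 0 by linear_combination this)).resolve_left ?_
      intro e
      refine hn₁ ?_
      rw [sub_eq_zero, hp₁, map_inv₀, frob_frob hF, ← mul_inv, inv_eq_one] at e
      rw [mul_comm]; exact e
    have hPz : h P z = 1 := by rw [hP, h_add_left, h_smul_left, hzz, hyz, mul_zero, add_zero]
    have hP0 : P 0 = 0 := by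
      rw [← h_ev (hF := hF) P 0, hP, h_add_left, h_smul_left, hye, hze, mul_zero, add_zero]
    set a := P 1 with haP
    set b := P 2 with hbP
    have hPe : P = ![0, a, b] := by
      funext i; fin_cases i
      · exact hP0
      · rfl
      · rfl
    rw [hPe, h_three (hF := hF)] at hPP hPz
    simp [hz] at hPP hPz
    have hw' : b - w * a ≠ 0 := fun e => by
      rw [sub_eq_zero.1 e] at hPz
      exact zero_ne_one (α := F) (by linear_combination hPz - a * hw)
    have key : ∀ (m β μ p : F) (g : GL (Fin 3) F), m ≠ 0 → (m ^ 3)⁻¹ - 1 ≠ 0 →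
        (g : Mn) *ᵥ P = p • P →
        β * (w + ((m ^ 3)⁻¹ - 1) * y * (σ x + w * σ y)) =
          w * (1 + ((m ^ 3)⁻¹ - 1) * x * (σ x + w * σ y)) →
        (∀ a b : F, (g : Mn) *ᵥ ![0, a, b] =
          ![0, m * (a + ((m ^ 3)⁻¹ - 1) * x * (a * σ x + b * σ y)),
            β * (m * (b + ((m ^ 3)⁻¹ - 1) * y * (a * σ x + b * σ y)))]) →
        (w * a * y * (a * σ x + b * σ y) + w * b * a * x * (σ x + w * σ y) -
          w * b * x * (a * σ x + b * σ y) - b * a * y * (σ x + w * σ y)) +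
        ((m ^ 3)⁻¹ - 1) * (x * y * (σ x + w * σ y) * (a * σ x + b * σ y) * (w * a - b)) = 0 := by
      intro m β μ p g hm ht hgP hβ hf
      rw [hPe, hf a b] at hgP
      have c1 := congrFun hgP 1
      have c2 := congrFun hgP 2
      simp at c1 c2
      set t := (m ^ 3)⁻¹ - 1 with htdef
      refine (mul_eq_zero.1 (show (m * t) * _ = 0 from ?_)).resolve_left (mul_ne_zero hm ht)
      linear_combination (a * (w + t * y * (σ x + w * σ y))) * c2 -
        (b * (w + t * y * (σ x + w * σ y))) * c1 -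
        (a * m * (b + t * y * (a * σ x + b * σ y))) * hβ
    have hl2 : (l ^ 2) ^ 3 = l ^ 6 := by rw [← pow_mul]
    have ht₁ : (l ^ 3)⁻¹ - 1 ≠ 0 := fun e => hl31 (by rwa [sub_eq_zero, inv_eq_one] at e)
    have ht₂ : ((l ^ 2) ^ 3)⁻¹ - 1 ≠ 0 := fun e => hl61 (by rwa [sub_eq_zero, inv_eq_one, hl2] at e)
    have k1 := key l β₁ μ₁ p₁ g₁ hl0 ht₁ g₁P hb₁ f₁
    have k2 := key (l ^ 2) β₂ μ₂ p₂ g₂ (pow_ne_zero 2 hl0) ht₂ g₂P hb₂ f₂
    set Bc := x * y * (σ x + w * σ y) * (a * σ x + b * σ y) * (w * a - b) with hBc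
    have hB : Bc = 0 := by
      refine (mul_eq_zero.1 (show (((l ^ 3)⁻¹ - 1) - (((l ^ 2) ^ 3)⁻¹ - 1)) * Bc = 0 by
        linear_combination k1 - k2)).resolve_left fun e => hl31 ?_
      rw [sub_eq_zero, sub_left_inj, _root_.inv_inj, hl2] at e
      exact mul_left_cancel₀ (pow_ne_zero 3 hl0) (by linear_combination -e)
    have hnv := hv.norm (hF := hF) hKG
    rw [h_three (hF := hF), hv0, zero_mul, zero_add, ← hxdef, ← hydef] at hnv
    rw [hBc] at hB
    simp only [mul_eq_zero, hx, hy, false_or] at hB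
    rcases hB with (e | e) | e
    · have e' : x + σ w * y = 0 := by
        have := congrArg σ e
        rwa [map_add, map_mul, frob_frob hF, frob_frob hF, map_zero] at this
      exact absurd (show (1 : F) = 0 by
        linear_combination -hnv + x * e + (-w * σ y) * e' + (y * σ y) * hw) one_ne_zero
    · have e' : σ a * x + σ b * y = 0 := by
        have := congrArg σ e
        rwa [map_add, map_mul, map_mul, frob_frob hF, frob_frob hF, map_zero] at this
      have ha : a ≠ 0 := fun ha0 => by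
        rw [ha0, zero_mul, zero_add, mul_eq_zero, map_eq_zero, or_self] at hPP
        rw [ha0, hPP] at hPz
        simp at hPz
      have : (a * σ a) * 1 = 0 := by
        linear_combination (x * σ a) * e - (b * σ y) * e' + (y * σ y) * hPP - (a * σ a) * hnv
      rw [mul_one, mul_eq_zero, map_eq_zero, or_self] at this
      exact absurd this ha
    · exact absurd (by linear_combination -e) hw'
  · -- a commutator
    set g12 := g₁ * g₂ with hg12
    set g21 := g₂ * g₁ with hg21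
    set C := g12 * g21⁻¹ with hC
    have hCK : C ∈ K := mul_mem (mul_mem hg₁ hg₂) (inv_mem (mul_mem hg₂ hg₁))
    have hCg : ∀ u : V, (C : Mn) *ᵥ ((g21 : Mn) *ᵥ u) = (g12 : Mn) *ᵥ u := fun u => by
      rw [Matrix.mulVec_mulVec, ← Units.val_mul, hC, inv_mul_cancel_right]
    have C0 : (C : Mn) *ᵥ ev 0 = ev 0 := by
      have e12 : (g12 : Mn) *ᵥ ev 0 = (ν₁ * ν₂) • ev 0 := by
        rw [hg12, Units.val_mul, ← Matrix.mulVec_mulVec, e₂, Matrix.mulVec_smul, e₁]; module
      have e21 : (g21 : Mn) *ᵥ ev 0 = (ν₁ * ν₂) • ev 0 := by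
        rw [hg21, Units.val_mul, ← Matrix.mulVec_mulVec, e₁, Matrix.mulVec_smul, e₂]; module
      have := hCg (ev 0)
      rw [e12, e21, Matrix.mulVec_smul] at this
      exact smul_right_injective V (mul_ne_zero hν₁ hν₂) this
    have Cz : (C : Mn) *ᵥ z = z := by
      have e12 : (g12 : Mn) *ᵥ z = (μ₁ * μ₂) • z := by
        rw [hg12, Units.val_mul, ← Matrix.mulVec_mulVec, z₂, Matrix.mulVec_smul, z₁]; module
      have e21 : (g21 : Mn) *ᵥ z = (μ₁ * μ₂) • z := by
        rw [hg21, Units.val_mul, ← Matrix.mulVec_mulVec, z₁, Matrix.mulVec_smul, z₂]; module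
      have := hCg z
      rw [e12, e21, Matrix.mulVec_smul] at this
      exact smul_right_injective V (mul_ne_zero hμ₁ hμ₂) this
    set c0 := (p₂ * k₁ + k₂ * μ₁ - (p₁ * k₂ + k₁ * μ₂)) / (p₁ * p₂) with hc0
    have Cy : (C : Mn) *ᵥ yy = yy + c0 • z := by
      have e12 : (g12 : Mn) *ᵥ yy = (p₁ * p₂) • yy + (p₂ * k₁ + k₂ * μ₁) • z := by
        rw [hg12, Units.val_mul, ← Matrix.mulVec_mulVec, y₂, Matrix.mulVec_add, Matrix.mulVec_smul,
          Matrix.mulVec_smul, y₁, z₁]
        module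
      have e21 : (g21 : Mn) *ᵥ yy = (p₁ * p₂) • yy + (p₁ * k₂ + k₁ * μ₂) • z := by
        rw [hg21, Units.val_mul, ← Matrix.mulVec_mulVec, y₁, Matrix.mulVec_add, Matrix.mulVec_smul,
          Matrix.mulVec_smul, y₂, z₂]
        module
      have := hCg yy
      rw [e12, e21, Matrix.mulVec_add, Matrix.mulVec_smul, Matrix.mulVec_smul, Cz,
        ← eq_sub_iff_add_eq, add_sub_assoc, ← sub_smul] at this
      refine smul_right_injective V (mul_ne_zero hp₁0 hp₂0) ?_
      show (p₁ * p₂) • _ = (p₁ * p₂) • _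
      rw [this, smul_add, smul_smul, hc0, mul_div_cancel₀ _ (mul_ne_zero hp₁0 hp₂0)]
    have hmem := tvmem C hCK C0 Cz c0 Cy
    have hc00 : c0 ≠ 0 := div_ne_zero (sub_ne_zero.2 hK12) (mul_ne_zero hp₁0 hp₂0)
    by_cases h1 : c0 = 1
    · refine tvdone _ (mul_ne_zero hc00 (mul_ne_zero hμ₁ hσμ₁)) ?_
        (params_conj (hz' := hzz) hg₁ (hKG hg₁) z₁ hmem)
      rw [h1, one_mul]; exact hn₁
    · exact tvdone c0 hc00 h1 hmem

end CfsgLib.MaxSub.SU3Max.Frame
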