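/-
Overgroups of the monomial group of `SU_3`: the line of two images with non-degenerate pole.
-/
import Cfsg.Agent.Lib.MaxSub.SU3Max.Frame.Zero
import Cfsg.Agent.Lib.Frobenius.Kernel

set_option autoImplicit false
set_option maxHeartbeats 800000
set_option linter.unusedSectionVars false

namespace CfsgLib.MaxSub.SU3Max.Frame

open Matrix Cfsg Cfsg.Geo CfsgLib.UnitaryTransvection

variable {F : Type*} [Field F] [Fintype F] {q : ℕ} {hF : Fintype.card F = q ^ 2}
  {K : Subgroup (GL (Fin 3) F)}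

local notation "V" => Fin 3 → F
local notation "h" => Cfsg.hermForm 3 F q
local notation "σ" => frob hF
local notation "Mn" => Matrix (Fin 3) (Fin 3) F
local notation "G" => Cfsg.GU 3 F q ⊓ specialLinear (Fin 3) F

/-- Subgroups act on subspaces. -/
@[reducible] def subspaceAct (S : Subgroup (GL (Fin 3) F)) : MulAction S (Submodule F V) where
  smul g W := W.map (Matrix.toLin' ((g : GL (Fin 3) F) : Mn))
  one_smul W := by
    show W.map (Matrix.toLin' (1 : Mn)) = W
    rw [Matrix.toLin'_one, Submodule.map_id]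
  mul_smul g g' W := by
    show W.map (Matrix.toLin' (((g : GL (Fin 3) F) : Mn) * ((g' : GL (Fin 3) F) : Mn))) = _
    rw [Matrix.toLin'_mul, Submodule.map_comp]
    rfl

include hF in
/-- If the pole of `ev 0` and the image `v` is non-degenerate, there is a contradiction. -/
theorem pole_false (hq : 3 ≤ q) (hq5 : q ≠ 5) (hKG : K ≤ G) (hN : HasN q K)
    (hnz : ∀ u : V, Om K u → u 0 = 0 → Frm u) {v : V} (hv : Om K v) (h0 : v 0 ≠ 0) (h1 : v 1 ≠ 0)
    (h2 : v 2 ≠ 0) (hX : v 0 * σ (v 0) ≠ 1) : False := by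
  classical
  set x := v 1 with hxdef
  set y := v 2 with hydef
  set z : V := ![0, -σ y, σ x] with hz
  set p : V := ![0, x, y] with hp
  set Y := x * σ x + y * σ y with hYdef
  have hnv := hv.norm (hF := hF) hKG
  rw [h_three (hF := hF), ← hxdef, ← hydef] at hnv
  have hY0 : Y ≠ 0 := fun e => hX (by linear_combination hnv - e)
  have hvz : h v z = 0 := by
    rw [h_three (hF := hF)]
    simp [hz, frob_frob hF, ← hxdef, ← hydef]
    ring
  have hvp : v = v 0 • ev 0 + p := by funext i; fin_cases i <;> simp [ev, hp, hxdef, hydef]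
  have hez : h (ev 0 : V) z = 0 := by rw [h_ev_left (hF := hF)]; simp [hz]
  have hep : h (ev 0 : V) p = 0 := by rw [h_ev_left (hF := hF)]; simp [hp]
  have hpz : h p z = 0 := by
    rw [h_three (hF := hF)]
    simp [hz, hp, frob_frob hF]
    ring
  have hpp : h p p = Y := by rw [h_three (hF := hF)]; simp [hp, hYdef]
  have hee : h (ev 0 : V) (ev 0) = 1 := by rw [h_ev (hF := hF)]; simp [ev]
  -- the coordinates of the line
  have expd : ∀ u : V, h u z = 0 → u = u 0 • ev 0 + (h u p / Y) • p := fun u hu => by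
    rw [h_three (hF := hF)] at hu
    simp [hz, frob_frob hF] at hu
    rw [h_three (hF := hF)]
    funext i; fin_cases i
    · simp [ev, hp]
    · simp [ev, hp]
      field_simp
      rw [hYdef]
      linear_combination (-σ y) * hu
    · simp [ev, hp]
      field_simp
      rw [hYdef]
      linear_combination (σ x) * hu
  have hev00 : (ev 0 : V) 0 = 1 := Pi.single_eq_same _ _
  have hev01 : (ev 0 : V) 1 = 0 := Pi.single_eq_of_ne (by decide) _
  have hp00 : p 0 = 0 := rfl
  have hp01 : p 1 = x := rfl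
  set S : Subgroup (GL (Fin 3) F) := K ⊓ subspaceStabilizer (Submodule.span F {z}) with hS
  have hSK : ∀ g : S, (g : GL (Fin 3) F) ∈ K := fun g => g.2.1
  have hz0 : z ≠ 0 := fun e => by
    have := congrFun e 1
    simp [hz, h2] at this
  have hgz : ∀ g : S, ∃ γ : F, γ ≠ 0 ∧ ((g : GL (Fin 3) F) : Mn) *ᵥ z = γ • z := fun g => by
    obtain ⟨γ, hγ⟩ := Submodule.mem_span_singleton.1
      ((g.2.2 z).1 (Submodule.mem_span_singleton_self z))
    refine ⟨γ, fun e => hz0 ?_, hγ.symm⟩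
    rw [← inv_mulVec' (g : GL (Fin 3) F) z]
    show _ *ᵥ (((g : GL (Fin 3) F) : Mn) *ᵥ z) = _
    rw [show ((g : GL (Fin 3) F) : Mn) *ᵥ z = γ • z from hγ.symm, e, zero_smul, Matrix.mulVec_zero]
  have hperp : ∀ (g : S) (u : V), h u z = 0 → h (((g : GL (Fin 3) F) : Mn) *ᵥ u) z = 0 := fun g u hu => by
    obtain ⟨γ, hγ0, hγ⟩ := hgz g
    have := G_isometry (hKG (hSK g)) u z
    rw [hγ, h_smul_right hF, hu, mul_eq_zero] at this
    exact this.resolve_left ((map_ne_zero _).2 hγ0)
  -- members with a fixed point on the line besides `ev 0`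
  have f2 : ∀ (g : S) (a c : F), a ≠ 0 → c ≠ 0 →
      (∃ κ : F, ((g : GL (Fin 3) F) : Mn) *ᵥ ev 0 = κ • ev 0) →
      (∃ κ : F, ((g : GL (Fin 3) F) : Mn) *ᵥ (a • ev 0 + c • p) = κ • (a • ev 0 + c • p)) →
      ∃ A : F, A ≠ 0 ∧ ∀ u, h u z = 0 → ((g : GL (Fin 3) F) : Mn) *ᵥ u = A • u := by
    rintro g a c ha hc ⟨A, hA⟩ ⟨κ, hκ⟩
    have hA0 : A ≠ 0 := fun e => by
      have := congrArg (fun w => ((((g : GL (Fin 3) F))⁻¹ : GL (Fin 3) F) : Mn) *ᵥ w) hA
      simp only [inv_mulVec', e, zero_smul, Matrix.mulVec_zero] at this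
      have := congrFun this 0
      simp [ev] at this
    have hp0 : (((g : GL (Fin 3) F) : Mn) *ᵥ p) 0 = 0 := by
      have := G_isometry (hKG (hSK g)) p (ev 0)
      rw [hA, h_smul_right hF, (h_eq_zero_swap hF).1 hep, h_ev (hF := hF), mul_eq_zero] at this
      exact this.resolve_left ((map_ne_zero _).2 hA0)
    obtain ⟨D, hD⟩ : ∃ D, ((g : GL (Fin 3) F) : Mn) *ᵥ p = D • p := by
      refine ⟨h (((g : GL (Fin 3) F) : Mn) *ᵥ p) p / Y, (expd _ (hperp g p hpz)).trans ?_⟩
      rw [hp0, zero_smul, zero_add]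
    rw [Matrix.mulVec_add, Matrix.mulVec_smul, Matrix.mulVec_smul, hA, hD] at hκ
    have c0 := congrFun hκ 0
    have c1 := congrFun hκ 1
    simp [hev00, hev01, hp00, hp01] at c0 c1
    have eA : κ = A := mul_right_cancel₀ ha (by linear_combination -c0)
    have eD : D = A := by
      rw [eA] at c1
      exact mul_right_cancel₀ (mul_ne_zero hc h1) (by linear_combination c1)
    refine ⟨A, hA0, fun u hu => ?_⟩
    conv_lhs => rw [expd u hu, Matrix.mulVec_add, Matrix.mulVec_smul, Matrix.mulVec_smul, hA, hD, eD]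
    conv_rhs => rw [expd u hu]
    module
  -- the action
  letI := subspaceAct S
  set o : Submodule F V := Submodule.span F {ev 0} with ho
  have hsmul : ∀ (g : S) (u : V), g • Submodule.span F ({u} : Set V) =
      Submodule.span F {((g : GL (Fin 3) F) : Mn) *ᵥ u} := fun g u => by
    show (Submodule.span F ({u} : Set V)).map _ = _
    rw [Submodule.map_span, Set.image_singleton, Matrix.toLin'_apply]
  set O := MulAction.orbit S o with hO
  set o0 : O := ⟨o, MulAction.mem_orbit_self _⟩ with ho0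
  set ρ : S →* Equiv.Perm O := MulAction.toPermHom S O with hρ
  set X := ρ.range with hXdef
  set H := MulAction.stabilizer X o0 with hH
  have hfix : ∀ g : S, (ρ.rangeRestrict g) ∈ H ↔
      ∃ κ : F, ((g : GL (Fin 3) F) : Mn) *ᵥ ev 0 = κ • ev 0 := fun g => by
    rw [hH, MulAction.mem_stabilizer_iff]
    constructor
    · intro e
      have e' : g • o = o := congrArg Subtype.val e
      rw [ho, hsmul] at e'
      have := Submodule.mem_span_singleton_self (R := F) (((g : GL (Fin 3) F) : Mn) *ᵥ ev 0)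
      rw [e'] at this
      obtain ⟨κ, hκ⟩ := Submodule.mem_span_singleton.1 this
      exact ⟨κ, hκ.symm⟩
    · rintro ⟨κ, hκ⟩
      refine Subtype.ext ?_
      show g • o = o
      rw [ho, hsmul, hκ]
      refine Submodule.span_singleton_smul_eq (Ne.isUnit fun e => ?_) _
      have := congrArg (fun w => (((g : GL (Fin 3) F)⁻¹ : GL (Fin 3) F) : Mn) *ᵥ w) hκ
      simp only [inv_mulVec', e, zero_smul, Matrix.mulVec_zero] at this
      have := congrFun this 0
      simp [ev] at this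
  -- coordinates of a moved point
  have hmove : ∀ g : S, (¬ ∃ κ : F, ((g : GL (Fin 3) F) : Mn) *ᵥ ev 0 = κ • ev 0) →
      ∃ a c : F, a ≠ 0 ∧ c ≠ 0 ∧ ((g : GL (Fin 3) F) : Mn) *ᵥ ev 0 = a • ev 0 + c • p := by
    intro g hg
    have hu : Om K (((g : GL (Fin 3) F) : Mn) *ᵥ ev 0) :=
      ⟨g, hSK g, 0, rfl⟩
    have e := expd _ (hperp g _ hez)
    refine ⟨_, _, fun ha => ?_, fun hc => hg ⟨_, e.trans (by rw [hc, zero_smul, add_zero])⟩, e⟩
    rw [ha, zero_smul, zero_add] at e
    obtain ⟨j, hj⟩ := hnz _ hu ha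
    rw [e] at hj
    have hc : h (((g : GL (Fin 3) F) : Mn) *ᵥ ev 0) p / Y = 0 := by
      fin_cases j
      · simpa [hp, h1] using hj 1 (by decide)
      · simpa [hp, h2] using hj 2 (by decide)
      · simpa [hp, h1] using hj 1 (by decide)
    rw [hc, zero_smul] at e
    have := congrArg (fun w => (((g : GL (Fin 3) F)⁻¹ : GL (Fin 3) F) : Mn) *ᵥ w) e
    simp only [inv_mulVec', Matrix.mulVec_zero] at this
    have := congrFun this 0
    simp [ev] at this
  have htriv : ∀ g : S, (∃ A : F, A ≠ 0 ∧ ∀ u, h u z = 0 → ((g : GL (Fin 3) F) : Mn) *ᵥ u = A • u) →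
      ρ.rangeRestrict g = 1 := by
    rintro g ⟨A, hA0, hA⟩
    refine Subtype.ext (Equiv.ext fun w => Subtype.ext ?_)
    obtain ⟨g', hg'⟩ := w.2
    have hw : w.1 = Submodule.span F {((g' : GL (Fin 3) F) : Mn) *ᵥ ev 0} := by
      rw [← hsmul, ← ho]; exact hg'.symm
    show g • w.1 = w.1
    rw [hw, hsmul, hA _ (hperp g' _ hez)]
    exact Submodule.span_singleton_smul_eq (Ne.isUnit hA0) _
  -- the homology at `v` moves `ev 0`
  obtain ⟨l, hl0, hl, hlord⟩ := exists_gen (hF := hF) hq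
  have hdvd : ∀ m : ℕ, 0 < m → m < q + 1 → l ^ m ≠ 1 := fun m hm0 hm e => by
    have := Nat.le_of_dvd hm0 (hlord m e)
    omega
  have hl3 : l ^ 3 ≠ 1 := hdvd 3 (by omega) (by omega)
  obtain ⟨gv, hgvK, hgvx⟩ := exists_homol hKG hN hv hl
  have hzv : h z v = 0 := (h_eq_zero_swap hF).1 hvz
  set g₁ : S := ⟨gv, hgvK, mem_stab_of_maps fun w hw => by
    obtain ⟨κ, rfl⟩ := Submodule.mem_span_singleton.1 hw
    rw [hgvx, h_smul_left, hzv, mul_zero, mul_zero, zero_smul, add_zero]
    exact Submodule.smul_mem _ _ hw⟩ with hg₁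
  have hδ : (l * l)⁻¹ - l ≠ 0 := fun e => hl3 (by
    rw [sub_eq_zero, inv_eq_iff_eq_inv] at e
    calc l ^ 3 = l * l * l := by ring
      _ = 1 := by rw [e, inv_mul_cancel₀ hl0])
  have hg₁m : ¬ ∃ κ : F, ((g₁ : GL (Fin 3) F) : Mn) *ᵥ ev 0 = κ • ev 0 := by
    rintro ⟨κ, hκ⟩
    have := congrFun hκ 1
    rw [show ((g₁ : GL (Fin 3) F) : Mn) *ᵥ ev 0 = _ from hgvx _, h_ev_left (hF := hF)] at this
    simp [hev00, hev01, h0, h1, ← hxdef] at this
    exact hδ (by rwa [_root_.mul_inv_rev])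
  obtain ⟨a₁, c₁, ha₁, hc₁, hg₁e⟩ := hmove g₁ hg₁m
  -- the homologies at `ev 0`
  have homol : ∀ l : F, l * σ l = 1 → ∃ c : S,
      ((c : GL (Fin 3) F) : Mn) *ᵥ ev 0 = (l * l)⁻¹ • ev 0 ∧ ((c : GL (Fin 3) F) : Mn) *ᵥ p = l • p := by
    intro l hl
    obtain ⟨g0, hg0, hg0x⟩ := exists_homol (hF := hF) hKG hN (v := ev 0) ⟨1, one_mem _, 0, by simp⟩ hl
    refine ⟨⟨g0, hg0, mem_stab_of_maps fun w hw => ?_⟩, ?_, ?_⟩
    · obtain ⟨κ, rfl⟩ := Submodule.mem_span_singleton.1 hw
      rw [hg0x, h_smul_left, (h_eq_zero_swap hF).1 hez, mul_zero, mul_zero, zero_smul, add_zero]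
      exact Submodule.smul_mem _ _ hw
    · show (g0 : Mn) *ᵥ ev 0 = _
      rw [hg0x, hee]; module
    · show (g0 : Mn) *ᵥ p = _
      rw [hg0x, (h_eq_zero_swap hF).1 hep, mul_zero, zero_smul, add_zero]
  obtain ⟨c, hce, hcp⟩ := homol l hl
  have hFrob : IsFrobeniusComplement H := by
    refine ⟨fun e => ?_, fun e => ?_, fun w hw => ?_⟩
    · have hmem : ρ.rangeRestrict c ∈ H := (hfix c).2 ⟨_, hce⟩
      rw [e, Subgroup.mem_bot] at hmem
      have hw : c • (g₁ • o) = g₁ • o := by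
        have := congrArg (fun e : X => ((e : Equiv.Perm O) ⟨g₁ • o, MulAction.mem_orbit _ g₁⟩).1) hmem
        exact this
      rw [ho, hsmul, hsmul, hg₁e, Matrix.mulVec_add, Matrix.mulVec_smul, Matrix.mulVec_smul, hce, hcp] at hw
      have := Submodule.mem_span_singleton_self (R := F) (a₁ • ((l * l)⁻¹ • ev 0) + c₁ • (l • p) : V)
      rw [hw] at this
      obtain ⟨κ, hκ⟩ := Submodule.mem_span_singleton.1 this
      have k0 := congrFun hκ 0
      have k1 := congrFun hκ 1
      simp [hev00, hev01, hp00, hp01] at k0 k1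
      have hll : l = (l * l)⁻¹ := by
        have e1 : κ = l := mul_right_cancel₀ (mul_ne_zero hc₁ h1) (by linear_combination k1)
        rw [e1] at k0
        exact mul_left_cancel₀ ha₁ (by rw [_root_.mul_inv_rev]; linear_combination k0)
      exact hδ (sub_eq_zero.2 hll.symm)
    · exact hg₁m ((hfix g₁).1 (e ▸ Subgroup.mem_top _))
    · rw [eq_bot_iff]
      rintro s ⟨hs, hs'⟩
      obtain ⟨g, rfl⟩ := ρ.rangeRestrict_surjective s
      obtain ⟨g', rfl⟩ := ρ.rangeRestrict_surjective w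
      rw [Subgroup.mem_bot]
      obtain ⟨a, c, ha, hc, he⟩ := hmove g' fun e => hw ((hfix g').2 e)
      refine htriv g (f2 g a c ha hc ((hfix g).1 hs) ?_)
      have hgg := mem_conj_smul_iff.1 hs'
      rw [← map_inv, ← map_mul, ← map_mul, hfix] at hgg
      obtain ⟨κ, hκ⟩ := hgg
      refine ⟨κ, ?_⟩
      have := congrArg (fun w => ((g' : GL (Fin 3) F) : Mn) *ᵥ w) hκ
      simp only [Subgroup.coe_mul, Subgroup.coe_inv, Units.val_mul, ← Matrix.mulVec_mulVec,
        mul_inv_mulVec', Matrix.mulVec_smul, he] at this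
      exact this
  obtain ⟨N, -, hNn, hNc, hNil⟩ := CfsgLib.Frob.exists_nilpotent_kernel hFrob
  have hNb : N ≠ ⊥ := fun e => hFrob.2.1 (by
    rw [e] at hNc; exact Subgroup.isComplement'_bot_left.1 hNc)
  haveI := hNil
  haveI : Nontrivial N := Subgroup.nontrivial_iff_ne_bot N |>.2 hNb
  haveI : Nontrivial (Subgroup.center N) := (Subgroup.nontrivial_iff_ne_bot _).2 (by
    have := CfsgLib.inf_center_ne_bot_of_nilpotent (N := (⊤ : Subgroup N)) top_ne_bot
    rwa [top_inf_eq] at this)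
  obtain ⟨⟨⟨a, haN⟩, haZ⟩, ha1⟩ := exists_ne (1 : Subgroup.center N)
  have ha1' : a ≠ 1 := fun e => ha1 (Subtype.ext (Subtype.ext e))
  obtain ⟨g, rfl⟩ := ρ.rangeRestrict_surjective a
  have hgm : ¬ ∃ κ : F, ((g : GL (Fin 3) F) : Mn) *ᵥ ev 0 = κ • ev 0 := fun e =>
    ha1' (Subgroup.disjoint_def.1 hNc.disjoint haN ((hfix g).2 e))
  obtain ⟨a, cc, ha, hcc, hge⟩ := hmove g hgm
  have hgp := expd _ (hperp g p hpz)
  set b := (((g : GL (Fin 3) F) : Mn) *ᵥ p) 0 with hb
  set d := h (((g : GL (Fin 3) F) : Mn) *ᵥ p) p / Y with hd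
  have hbd : b * σ a + d * σ cc * Y = 0 := by
    have := G_isometry (hKG (hSK g)) p (ev 0)
    rw [hge, hgp, (h_eq_zero_swap hF).1 hep] at this
    simp only [h_add_left, h_add_right hF, h_smul_left, h_smul_right hF, hee, hep,
      (h_eq_zero_swap hF).1 hep, hpp, mul_zero, add_zero, zero_add] at this
    linear_combination this
  have hinj : ∀ u : V, ((g : GL (Fin 3) F) : Mn) *ᵥ u = 0 → u = 0 := fun u e => by
    rw [← inv_mulVec' (g : GL (Fin 3) F) u, e, Matrix.mulVec_zero]
  have hD0 : a * d - b * cc ≠ 0 := fun e => by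
    have h' := hinj (d • ev 0 + (-cc) • p) (by
      rw [Matrix.mulVec_add, Matrix.mulVec_smul, Matrix.mulVec_smul, hge, hgp]
      have : (a * d - b * cc) • (ev 0 : V) = 0 := by rw [e, zero_smul]
      linear_combination (norm := module) this)
    have := congrFun h' 1
    simp [hev00, hev01, hp00, hp01, hcc, h1] at this
  have hb0 : b ≠ 0 := fun e => by
    rw [e, zero_mul, zero_add, mul_eq_zero, mul_eq_zero, map_eq_zero] at hbd
    rcases hbd with (hd0 | hc0) | hY
    · exact hD0 (by rw [e, hd0]; ring)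
    · exact hcc hc0
    · exact hY0 hY
  -- commuting with a conjugate
  have eqs : ∀ l : F, l * σ l = 1 → (l ^ 3) ^ 2 ≠ 1 →
      (2 : F) ≠ 0 ∧ 2 * (a * a) * l ^ 3 + b * cc * ((l ^ 3) ^ 2 + 1) = 0 := by
    intro l hl hl6
    have hl0 : l ≠ 0 := fun e => by rw [e, zero_mul] at hl; exact zero_ne_one hl
    obtain ⟨c, hce, hcp⟩ := homol l hl
    set g' : S := c * g * c⁻¹ with hg'
    set ε := l ^ 3 with hε
    have hε0 : ε ≠ 0 := pow_ne_zero 3 hl0
    have hg'e : ((g' : GL (Fin 3) F) : Mn) *ᵥ ev 0 = a • ev 0 + (cc * ε) • p := by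
      have e1 : (((c⁻¹ : S) : GL (Fin 3) F) : Mn) *ᵥ ev 0 = (l * l) • ev 0 := by
        rw [Subgroup.coe_inv]
        conv_lhs => rw [show (ev 0 : V) = (l * l) • (((c : GL (Fin 3) F) : Mn) *ᵥ ev 0) by
          rw [hce, smul_smul, mul_inv_cancel₀ (mul_ne_zero hl0 hl0), one_smul]]
        rw [Matrix.mulVec_smul, inv_mulVec']
      rw [hg', Subgroup.coe_mul, Subgroup.coe_mul, Units.val_mul, Units.val_mul, ← Matrix.mulVec_mulVec,
        ← Matrix.mulVec_mulVec, e1, Matrix.mulVec_smul, hge, Matrix.mulVec_smul, Matrix.mulVec_add,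
        Matrix.mulVec_smul, Matrix.mulVec_smul, hce, hcp, smul_add, smul_smul, smul_smul, smul_smul,
        smul_smul]
      congr 2 <;> (try rw [hε]) <;> field_simp
    have hg'p : ((g' : GL (Fin 3) F) : Mn) *ᵥ p = (b / ε) • ev 0 + d • p := by
      have e1 : (((c⁻¹ : S) : GL (Fin 3) F) : Mn) *ᵥ p = l⁻¹ • p := by
        rw [Subgroup.coe_inv]
        conv_lhs => rw [show p = l⁻¹ • (((c : GL (Fin 3) F) : Mn) *ᵥ p) by
          rw [hcp, smul_smul, inv_mul_cancel₀ hl0, one_smul]]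
        rw [Matrix.mulVec_smul, inv_mulVec']
      rw [hg', Subgroup.coe_mul, Subgroup.coe_mul, Units.val_mul, Units.val_mul, ← Matrix.mulVec_mulVec,
        ← Matrix.mulVec_mulVec, e1, Matrix.mulVec_smul, hgp, Matrix.mulVec_smul, Matrix.mulVec_add,
        Matrix.mulVec_smul, Matrix.mulVec_smul, hce, hcp, smul_add, smul_smul, smul_smul, smul_smul,
        smul_smul]
      congr 2 <;> (try rw [hε]) <;> field_simp
    have hcomm : ρ.rangeRestrict (g * g') = ρ.rangeRestrict (g' * g) := by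
      have hg'N : ρ.rangeRestrict g' ∈ N := by
        rw [hg', map_mul, map_mul, map_inv]; exact hNn.conj_mem _ haN _
      have := Subgroup.mem_center_iff.1 haZ ⟨_, hg'N⟩
      have := congrArg Subtype.val this
      simp only [Subgroup.coe_mul] at this
      rw [ρ.rangeRestrict.map_mul g g', ρ.rangeRestrict.map_mul g' g]
      exact this.symm
    set k : S := (g' * g)⁻¹ * (g * g') with hk
    have hk1 : ρ.rangeRestrict k = 1 := by
      rw [hk, map_mul, map_inv, hcomm, inv_mul_cancel]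
    obtain ⟨A, hA0, hA⟩ := f2 k a₁ c₁ ha₁ hc₁ ((hfix k).1 (by rw [hk1]; exact one_mem _)) (by
      have := congrArg (fun e : X => ((e : Equiv.Perm O) ⟨g₁ • o, MulAction.mem_orbit _ g₁⟩).1) hk1
      have hw : k • (g₁ • o) = g₁ • o := this
      rw [ho, hsmul, hsmul, hg₁e] at hw
      have := Submodule.mem_span_singleton_self (R := F)
        (((k : GL (Fin 3) F) : Mn) *ᵥ (a₁ • ev 0 + c₁ • p) : V)
      rw [hw] at this
      obtain ⟨κ, hκ⟩ := Submodule.mem_span_singleton.1 this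
      exact ⟨κ, hκ.symm⟩)
    have hgg : ∀ u : V, h u z = 0 → ((g : GL (Fin 3) F) : Mn) *ᵥ (((g' : GL (Fin 3) F) : Mn) *ᵥ u) =
        A • (((g' : GL (Fin 3) F) : Mn) *ᵥ (((g : GL (Fin 3) F) : Mn) *ᵥ u)) := fun u hu => by
      have h' := congrArg (fun w => (((g' * g : S) : GL (Fin 3) F) : Mn) *ᵥ w) (hA u hu)
      simp only [Matrix.mulVec_smul] at h'
      rw [Matrix.mulVec_mulVec (v := u), ← Units.val_mul, ← Subgroup.coe_mul, hk, mul_inv_cancel_left] at h'
      rwa [Subgroup.coe_mul S g g', Subgroup.coe_mul S g' g, Units.val_mul, Units.val_mul,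
        ← Matrix.mulVec_mulVec, ← Matrix.mulVec_mulVec] at h'
    have E0 := hgg _ hez
    have E1 := hgg _ hpz
    rw [hg'e, hge, Matrix.mulVec_add, Matrix.mulVec_add, Matrix.mulVec_smul, Matrix.mulVec_smul,
      Matrix.mulVec_smul, Matrix.mulVec_smul, hge, hgp, hg'e, hg'p] at E0
    rw [hg'p, hgp, Matrix.mulVec_add, Matrix.mulVec_add, Matrix.mulVec_smul, Matrix.mulVec_smul,
      Matrix.mulVec_smul, Matrix.mulVec_smul, hge, hgp, hg'e, hg'p] at E1
    have e11 := congrFun E0 0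
    have e21 := congrFun E0 1
    have e12 := congrFun E1 0
    have e22 := congrFun E1 1
    simp [hev00, hev01, hp00, hp01] at e11 e21 e12 e22
    have e21' : a * cc + cc * ε * d = A * (a * (cc * ε) + cc * d) :=
      mul_right_cancel₀ h1 (by linear_combination e21)
    have e22' : b / ε * cc + d * d = A * (b * (cc * ε) + d * d) :=
      mul_right_cancel₀ h1 (by linear_combination e22)
    field_simp at e11 e12 e22'
    have hA2 : A * A = 1 := by
      refine mul_right_cancel₀ (mul_ne_zero (mul_ne_zero hε0 hε0) (mul_self_ne_zero.2 hD0)) (sub_eq_zero.1 ?_)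
      linear_combination -(cc * b + ε * d ^ 2) * e11 - A * (a ^ 2 * ε + cc * b) * e22' +
        ε * b * cc * (a + ε * d + A * (a * ε + d)) * e12
    rcases mul_self_eq_one_iff.1 hA2 with rfl | rfl
    · exfalso
      refine hl6 ?_
      have hbc := mul_ne_zero hb0 hcc
      refine mul_left_cancel₀ hbc ?_
      linear_combination e11
    · have hne : (1 : F) ≠ -1 → (2 : F) ≠ 0 := fun hh h2 => hh (by linear_combination h2)
      have h2 : (2 : F) ≠ 0 := hne fun e => by
        refine hl6 (mul_left_cancel₀ (mul_ne_zero hb0 hcc) ?_)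
        linear_combination e11 - (a * a * ε + b * cc) * e
      exact ⟨h2, by linear_combination e11⟩
  have hl6 : (l ^ 3) ^ 2 ≠ 1 := fun e => by
    rw [← pow_mul] at e
    have hd := hlord _ e
    have := Nat.le_of_dvd (by norm_num) hd
    rcases show q = 3 ∨ q = 4 ∨ q = 5 by omega with rfl | rfl | rfl <;> omega
  obtain ⟨h2F, t1⟩ := eqs l hl hl6
  by_cases h12 : ((l ^ 2) ^ 3) ^ 2 = 1
  · have : l ^ 6 + 1 = 0 := by
      refine (mul_eq_zero.1 (show (l ^ 6 - 1) * (l ^ 6 + 1) = 0 by linear_combination h12)).resolve_left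
        (sub_ne_zero.2 ?_)
      rw [← pow_mul] at hl6; exact hl6
    have : a * a = 0 := by
      refine (mul_eq_zero.1 (show (2 * l ^ 3) * (a * a) = 0 by
        linear_combination t1 - b * cc * this)).resolve_left (mul_ne_zero h2F (pow_ne_zero 3 hl0))
    exact ha (mul_self_eq_zero.1 this)
  · obtain ⟨-, t2⟩ := eqs (l ^ 2) (by rw [map_pow, ← mul_pow, hl, one_pow]) h12
    have : (l ^ 3 - 1) * ((l ^ 3) ^ 3 - 1) * (b * cc) = 0 := by
      linear_combination t2 - l ^ 3 * t1
    simp only [mul_eq_zero, hb0, hcc, or_false, sub_eq_zero, hl3, false_or] at this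
    rw [← pow_mul] at this
    have hd := hlord _ this
    have := Nat.le_of_dvd (by norm_num) hd
    have hq0 : (q : F) = 0 := by
      have := FiniteField.cast_card_eq_zero F
      rw [hF, Nat.cast_pow] at this
      exact pow_eq_zero_iff two_ne_zero |>.1 this
    rcases show q = 3 ∨ q = 4 ∨ q = 5 ∨ q = 6 ∨ q = 7 ∨ q = 8 by omega with
      rfl | rfl | rfl | rfl | rfl | rfl <;> try omega
    refine h2F (pow_eq_zero_iff (n := 3) (by norm_num) |>.1 ?_)
    push_cast at hq0
    linear_combination hq0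

end CfsgLib.MaxSub.SU3Max.Frame
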