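/-
Stabilisers of orthogonal frames are maximal in `SU_3(q)` for `q ≠ 5`.
-/
import Cfsg.Agent.Lib.MaxSub.SU3Max.Frame.Line
import Cfsg.Agent.Lib.MaxSub.DecompTools
import Cfsg.Agent.Lib.MaxSub.SU3Max.Points
import Cfsg.Agent.Lib.Heis27.Unitary

set_option autoImplicit false
set_option maxHeartbeats 800000
set_option linter.unusedSectionVars false

namespace CfsgLib.MaxSub.SU3Max.Frame

open Matrix Cfsg Cfsg.Geo CfsgLib.UnitaryTransvection

variable {F : Type*} [Field F] [Fintype F] {q : ℕ} {hF : Fintype.card F = q ^ 2}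
  {K : Subgroup (GL (Fin 3) F)}

local notation "V" => Fin 3 → F
local notation "h" => Cfsg.hermForm 3 F q
local notation "σ" => frob hF
local notation "Mn" => Matrix (Fin 3) (Fin 3) F
local notation "G" => Cfsg.GU 3 F q ⊓ specialLinear (Fin 3) F

theorem frm_of_two {u : V} (h0 : u 0 = 0) (hh : u 1 = 0 ∨ u 2 = 0) : Frm u := by
  rcases hh with e | e
  · exact ⟨2, fun l hl => by fin_cases l <;> first | exact absurd rfl hl | exact h0 | exact e⟩
  · exact ⟨1, fun l hl => by fin_cases l <;> first | exact absurd rfl hl | exact h0 | exact e⟩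

include hF in
/-- An overgroup moving a coordinate vector off the frame is everything. -/
theorem top_of_moved (hq : 3 ≤ q) (hq5 : q ≠ 5) (hKG : K ≤ G) (hN : HasN q K) {v : V} (hv : Om K v)
    (hm : ¬ Frm v) : G ≤ K := by
  by_contra hGK
  obtain ⟨P, hP, -, hPx⟩ := exists_cyc (hF := hF) hN
  have hnz0 : ∀ u : V, Om K u → u 0 = 0 → Frm u := fun u hu h0 => by
    by_cases hh : u 1 = 0 ∨ u 2 = 0
    · exact frm_of_two h0 hh
    · push Not at hh
      exact absurd (top_of_zero (hF := hF) hq hq5 hKG hN hu h0 hh.1 hh.2) hGK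
  have h1' : ∀ u : V, Om K u → Om K (![u 2, u 0, u 1] : V) := fun u hu => by
    have := Om.of_mul (hF := hF) hu hP
    rwa [hPx] at this
  have hnz : ∀ u : V, Om K u → ∀ i, u i = 0 → Frm u := by
    intro u hu i hi
    fin_cases i
    · exact hnz0 u hu hi
    · obtain ⟨j, hj⟩ := hnz0 _ (h1' _ (h1' u hu)) (by simpa using hi)
      refine ⟨j + 1, fun l hl => ?_⟩
      fin_cases j <;> fin_cases l <;> simp at hl <;>
        first | simpa using hj 0 (by decide) | simpa using hj 1 (by decide) | simpa using hj 2 (by decide)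
    · obtain ⟨j, hj⟩ := hnz0 _ (h1' u hu) (by simpa using hi)
      refine ⟨j + 2, fun l hl => ?_⟩
      fin_cases j <;> fin_cases l <;> simp at hl <;>
        first | simpa using hj 0 (by decide) | simpa using hj 1 (by decide) | simpa using hj 2 (by decide)
  have hfull : ∀ u : V, Om K u → ¬ Frm u → ∀ i, u i ≠ 0 ∧ u i * σ (u i) = 1 := by
    intro u hu hf
    have h0 : ∀ u : V, Om K u → ¬ Frm u → ∀ i, u i ≠ 0 := fun u hu hf i e => hf (hnz u hu i e)
    have h1 : ∀ u : V, Om K u → (∀ i, u i ≠ 0) → u 0 * σ (u 0) = 1 := fun u hu hne => by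
      by_contra hX
      exact pole_false (hF := hF) hq hq5 hKG hN hnz0 hu (hne 0) (hne 1) (hne 2) hX
    have hne := h0 u hu hf
    have hu' := h1' u hu
    have hne' : ∀ i, (![u 2, u 0, u 1] : V) i ≠ 0 := fun i => by
      fin_cases i
      · exact hne 2
      · exact hne 0
      · exact hne 1
    have hu'' := h1' _ hu'
    intro i
    refine ⟨hne i, ?_⟩
    fin_cases i
    · exact h1 u hu hne
    · have := h1 _ hu'' (fun i => by
        fin_cases i
        · exact hne 1
        · exact hne 2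
        · exact hne 0)
      simpa using this
    · simpa using h1 _ hu' hne'
  have hall := hfull v hv hm
  have hnv := hv.norm (hF := hF) hKG
  rw [h_three (hF := hF), (hall 0).2, (hall 1).2, (hall 2).2] at hnv
  have h2 : (2 : F) = 0 := by linear_combination hnv
  obtain ⟨l, hl0, hl, hlord⟩ := exists_gen (hF := hF) hq
  have hli : σ l = l⁻¹ := eq_inv_of_mul_eq_one_right hl
  obtain ⟨d, hd, -, hdx⟩ := exists_diag (hF := hF) hN ![1, l, l⁻¹] (fun i => by
    fin_cases i
    · show (1 : F) * σ 1 = 1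
      rw [map_one, mul_one]
    · exact hl
    · show l⁻¹ * σ l⁻¹ = 1
      rw [map_inv₀, ← mul_inv, hl, inv_one]) (by show 1 * l * l⁻¹ = 1; rw [one_mul, mul_inv_cancel₀ hl0])
  have hv' := hv
  obtain ⟨k, hk, j, hkv⟩ := hv'
  have hw : Om K (((k⁻¹ * d : GL (Fin 3) F) : Mn) *ᵥ v) :=
    Om.of_mul (hF := hF) hv (mul_mem (inv_mem hk) hd)
  set w := ((k⁻¹ * d : GL (Fin 3) F) : Mn) *ᵥ v with hwdef
  have hwj : w j = 1 + l + l⁻¹ := by
    rw [← h_ev (hF := hF) w j, hwdef, Units.val_mul, ← Matrix.mulVec_mulVec,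
      ← G_isometry (hKG hk), mul_inv_mulVec', hkv, hdx, h_three (hF := hF)]
    show 1 * v 0 * σ (v 0) + l * v 1 * σ (v 1) + l⁻¹ * v 2 * σ (v 2) = _
    linear_combination (hall 0).2 + l * (hall 1).2 + l⁻¹ * (hall 2).2
  have hS : σ (w j) = w j := by
    rw [hwj, map_add, map_add, map_inv₀, map_one, hli, inv_inv]
    ring
  have hne : ∀ m : ℕ, 0 < m → m < q + 1 → l ^ m ≠ 1 := fun m hm0 hm e => by
    have := Nat.le_of_dvd hm0 (hlord m e)
    omega
  have hS0 : w j ≠ 0 := fun e => hne 3 (by omega) (by omega) (by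
    rw [hwj] at e
    field_simp at e
    linear_combination (l - 1) * e)
  have hS1 : w j ≠ 1 := fun e => hne 2 (by omega) (by omega) (by
    rw [hwj] at e
    field_simp at e
    linear_combination e - h2)
  have hsq : w j * σ (w j) ≠ 1 := fun e => hS1 (by
    rw [hS] at e
    refine sub_eq_zero.1 (mul_self_eq_zero.1 ?_)
    linear_combination e + (1 - w j) * h2)
  by_cases hf : Frm w
  · obtain ⟨i, hi⟩ := hf
    obtain rfl : j = i := by_contra fun hne' => hS0 (hi j hne')
    have hnw := hw.norm (hF := hF) hKG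
    rw [h_three (hF := hF)] at hnw
    refine hsq ?_
    fin_cases j
    · simp [hi 1 (by decide), hi 2 (by decide)] at hnw; simpa using hnw
    · simp [hi 0 (by decide), hi 2 (by decide)] at hnw; simpa using hnw
    · simp [hi 0 (by decide), hi 1 (by decide)] at hnw; simpa using hnw
  · exact hsq (hfull w hw hf j).2

theorem conj_mem {U g : GL (Fin 3) F} (hU : U ∈ Cfsg.GU 3 F q) (hg : g ∈ G) : U * g * U⁻¹ ∈ G :=
  Subgroup.mem_inf.2 ⟨mul_mem (mul_mem hU hg.1) (inv_mem hU), by
    show Matrix.GeneralLinearGroup.det _ = 1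
    rw [map_mul, map_mul, show Matrix.GeneralLinearGroup.det g = 1 from hg.2, mul_one, map_inv,
      mul_inv_cancel]⟩

/-- Stabilisers of orthogonal frames are maximal in `SU_3`. -/
theorem su3_frame_maximal (hq : 3 ≤ q) (hq5 : q ≠ 5) (hF : Fintype.card F = q ^ 2)
    {D : Fin 3 → Submodule F V} (hD : IsNondegenerateMDecomposition h 1 D) :
    IsMaximalIn G (decompositionStabilizer D ⊓ G) := by
  classical
  have hex : ∀ i, ∃ v ∈ D i, v ≠ 0 := fun i => by
    refine Submodule.exists_mem_ne_zero_of_ne_bot fun e => ?_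
    have := hD.decomp.finrank_eq i
    rw [e, finrank_bot] at this
    omega
  choose v hv hv0 using hex
  have hspan : ∀ i, D i = Submodule.span F {v i} := fun i => eq_span_of_finrank_one (hD.decomp.finrank_eq i) (hv i) (hv0 i)
  have hnz : ∀ i, h (v i) (v i) ≠ 0 := fun i h0 => by
    obtain ⟨-, x, hx, hx'⟩ := hD.nondegenerate i (v i) (hv i) (hv0 i)
    rw [hspan i, Submodule.mem_span_singleton] at hx
    obtain ⟨c, rfl⟩ := hx
    exact hx' (by rw [h_smul_right hF, h0, mul_zero])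
  choose l hl0 hl using fun i => CfsgLib.Heis27.normalise hF (w := v i) (hnz i)
  obtain ⟨U, hU, hUc⟩ := CfsgLib.Heis27.unitary_of_cols hF (fun i => l i • v i) fun i j => by
    rcases eq_or_ne i j with rfl | hij
    · rw [if_pos rfl]; exact hl i
    · rw [if_neg hij]
      show h (l i • v i) (l j • v j) = 0
      rw [h_smul_left, h_smul_right hF, hD.orthogonal i j hij _ (hv i) _ (hv j), mul_zero, mul_zero]
  have hUev : ∀ i, (U : Mn) *ᵥ ev i = l i • v i := fun i => by
    rw [ev, Matrix.mulVec_single_one]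
    funext k
    exact hUc k i
  refine ⟨lt_of_le_of_ne inf_le_right fun e =>
    CfsgLib.Aschbacher.not_SU_le_decompositionStabilizer hF le_rfl (Or.inr hq) hD.decomp ((le_of_eq e.symm).trans inf_le_left),
    fun M hM hMG => ?_⟩
  by_cases hle : M ≤ decompositionStabilizer D
  · exact Or.inl (le_antisymm (le_inf hle hMG) hM)
  obtain ⟨g, hg, hgD⟩ := Set.not_subset.1 hle
  refine Or.inr (le_antisymm hMG ?_)
  set K := M.comap (MulAut.conj U).toMonoidHom with hK
  have hKG : K ≤ G := fun x hx => by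
    have := conj_mem (inv_mem hU) (hMG hx)
    simpa [mul_assoc] using this
  have hmul : ∀ (x : GL (Fin 3) F) (i : Fin 3),
      ((U * x * U⁻¹ : GL (Fin 3) F) : Mn) *ᵥ v i = (l i)⁻¹ • ((U : Mn) *ᵥ ((x : Mn) *ᵥ ev i)) := fun x i => by
    rw [show v i = (l i)⁻¹ • ((U : Mn) *ᵥ ev i) by rw [hUev, smul_smul, inv_mul_cancel₀ (hl0 i), one_smul],
      Matrix.mulVec_smul, Units.val_mul, Units.val_mul, ← Matrix.mulVec_mulVec, ← Matrix.mulVec_mulVec,
      inv_mulVec']
  have hfr : ∀ u : V, Frm u → ∃ (j : Fin 3) (c : F), u = c • ev j := fun u ⟨j, hj⟩ => by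
    refine ⟨j, u j, funext fun i => ?_⟩
    by_cases hi : i = j
    · subst hi; simp [ev]
    · simp [ev, hi, hj i hi]
  have hN : HasN q K := fun x hx hxf => hM ⟨CfsgLib.MaxSub.Decomp.mem_stab_of hD.decomp fun i => by
    obtain ⟨j, c, hc⟩ := hfr _ (hxf i)
    refine ⟨j, fun y hy => ?_⟩
    rw [hspan i, Submodule.mem_span_singleton] at hy
    obtain ⟨t, rfl⟩ := hy
    show ((U * x * U⁻¹ : GL (Fin 3) F) : Mn) *ᵥ _ ∈ D j
    rw [Matrix.mulVec_smul, hmul, hc, Matrix.mulVec_smul, hUev]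
    exact (D j).smul_mem _ ((D j).smul_mem _ ((D j).smul_mem _ ((D j).smul_mem _ (hv j)))),
    conj_mem hU hx⟩
  set g' : GL (Fin 3) F := U⁻¹ * g * U with hg'
  have hgU : U * g' * U⁻¹ = g := by rw [hg']; group
  have hg'K : g' ∈ K := by show U * g' * U⁻¹ ∈ M; rw [hgU]; exact hg
  obtain ⟨i, hi⟩ : ∃ i, ¬ Frm ((g' : Mn) *ᵥ ev i) := by
    by_contra hc
    push Not at hc
    refine hgD (CfsgLib.MaxSub.Decomp.mem_stab_of hD.decomp fun i => ?_)
    obtain ⟨j, c, hc'⟩ := hfr _ (hc i)
    refine ⟨j, fun y hy => ?_⟩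
    rw [hspan i, Submodule.mem_span_singleton] at hy
    obtain ⟨t, rfl⟩ := hy
    rw [← hgU, Matrix.mulVec_smul, hmul, hc', Matrix.mulVec_smul, hUev]
    exact (D j).smul_mem _ ((D j).smul_mem _ ((D j).smul_mem _ ((D j).smul_mem _ (hv j))))
  have htop := top_of_moved (hF := hF) hq hq5 hKG hN ⟨g', hg'K, i, rfl⟩ hi
  intro x hx
  have h' : U * (U⁻¹ * x * U) * U⁻¹ ∈ M := htop (by simpa using conj_mem (inv_mem hU) hx)
  rwa [show U * (U⁻¹ * x * U) * U⁻¹ = x by group] at h'

end CfsgLib.MaxSub.SU3Max.Frame
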